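import Groth.Agent.DPow.K977.Model
import Groth.Agent.S2193
import Mathlib.LinearAlgebra.TensorProduct.Tower

/-!
Base change of the integral divided power polynomial algebra: every divided power polynomial
algebra has divided powers on its augmentation ideal.
-/

set_option autoImplicit false

namespace K977.BaseChange

open K977.Lift K977.Model TensorProduct

universe u v w

section General

variable {A : Type u} {B : Type v} [CommRing A] [CommRing B] [Algebra A B] {I : Ideal A}
    (γ : DividedPowers I)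

open Groth.Agent.S2193 in
theorem exists_of_injective (hinj : Function.Injective (mu A B I)) :
    ∃ δ : DividedPowers (I.map (algebraMap A B)), γ.IsDPMorphism δ (algebraMap A B) := by
  classical
  let d : ℕ → B → B := fun n y => if hy : y ∈ I.map (algebraMap A B) then
    D B γ n (exists_mu hy).choose else 0
  have hd : ∀ (n : ℕ) (z : B ⊗[A] I), d n (mu A B I z) = D B γ n z := fun n z => by
    simp only [d]
    rw [dif_pos (mu_mem z)]
    congr 1
    exact hinj (exists_mu (mu_mem z)).choose_spec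
  have hdx : ∀ (n : ℕ) (x : A), x ∈ I → d n (algebraMap A B x) = algebraMap A B (γ.dpow n x) := by
    intro n x hx
    have : algebraMap A B x = mu A B I (1 ⊗ₜ ⟨x, hx⟩) := by rw [mu_tmul, one_mul]
    rw [this, hd, D_tmul, one_pow, one_mul]
  obtain ⟨δ, hδ⟩ := Groth.Agent.S2192.result (I.map (algebraMap A B)) (algebraMap A B '' I) rfl d
    (fun n x hx => dif_neg hx)
    (fun x hx => by
      obtain ⟨z, rfl⟩ := exists_mu hx
      rw [hd, D_zero])
    (fun x hx => by
      obtain ⟨z, rfl⟩ := exists_mu hx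
      rw [hd, D_one])
    (fun n x hn hx => by
      obtain ⟨z, rfl⟩ := exists_mu hx
      rw [hd]
      exact D_mem γ hn z)
    (fun n x y hx hy => by
      obtain ⟨z, rfl⟩ := exists_mu hx
      obtain ⟨w, rfl⟩ := exists_mu hy
      rw [← map_add, hd, D_add]
      exact Finset.sum_congr rfl fun k _ => by rw [hd, hd])
    (fun n a x hx => by
      obtain ⟨z, rfl⟩ := exists_mu hx
      rw [← mu_smul, hd, hd, D_smul])
    (by
      rintro m n _ ⟨x, hx, rfl⟩
      rw [hdx _ _ hx, hdx _ _ hx, hdx _ _ hx, ← map_mul, γ.mul_dpow hx, map_mul, map_natCast])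
    (by
      rintro m n _ hn ⟨x, hx, rfl⟩
      rw [hdx _ _ hx, hdx _ _ hx, hdx _ _ (γ.dpow_mem hn hx), γ.dpow_comp hn hx, map_mul,
        map_natCast])
  refine ⟨δ, le_rfl, fun {n} a ha => ?_⟩
  rw [hδ]
  exact hdx _ a ha

open Groth.Agent.S2193 in
/-- For an ideal of a ring `A` that is a direct summand over `ℤ`, multiplication
`(A ⊗ R) ⊗_A I → A ⊗ R` is injective. -/
theorem mu_injective_of_retract (R : Type v) [CommRing R] (ρ : A →ₗ[ℤ] I)
    (hρ : ∀ i : I, ρ i = i) :
    Function.Injective (mu A (A ⊗[ℤ] R) I) := by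
  let ι : I →ₗ[ℤ] A := I.subtype.restrictScalars ℤ
  let e1 : (A ⊗[ℤ] R) ⊗[A] I ≃ₗ[A] I ⊗[A] (A ⊗[ℤ] R) := TensorProduct.comm A _ _
  let e2 : I ⊗[A] (A ⊗[ℤ] R) ≃ₗ[A] I ⊗[ℤ] R := AlgebraTensorModule.cancelBaseChange ℤ A A I R
  have h1 : ∀ z, mu A (A ⊗[ℤ] R) I z = (ι.rTensor R) (e2 (e1 z)) := by
    intro z
    induction z with
    | zero => simp
    | add z w hz hw => rw [map_add, map_add, map_add, map_add, hz, hw]
    | tmul p i =>
      induction p with
      | zero => simp
      | add p q hp hq =>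
        rw [TensorProduct.add_tmul, map_add, map_add, map_add, map_add, hp, hq]
      | tmul a r =>
        rw [mu_tmul]
        simp only [e1, e2, TensorProduct.comm_tmul, AlgebraTensorModule.cancelBaseChange_tmul]
        change (a ⊗ₜ[ℤ] r) * (algebraMap A (A ⊗[ℤ] R) i) = _
        rw [Algebra.TensorProduct.algebraMap_apply, Algebra.algebraMap_self, RingHom.id_apply,
          Algebra.TensorProduct.tmul_mul_tmul, mul_one]
        simp [ι]
  have h2 : Function.Injective (ι.rTensor R) := by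
    have : (ρ.rTensor R).comp (ι.rTensor R) = LinearMap.id := by
      rw [← LinearMap.rTensor_comp]
      have : ρ ∘ₗ ι = LinearMap.id := by
        ext i
        exact congrArg Subtype.val (hρ i)
      rw [this, LinearMap.rTensor_id]
    exact Function.LeftInverse.injective (g := ρ.rTensor R) fun z => LinearMap.congr_fun this z
  intro z w hzw
  rw [h1, h1] at hzw
  exact e1.injective (e2.injective (h2 hzw))

end General

section Poly

variable {R : Type u} [CommRing R] {Λ : Type w} {P : Type v} [CommRing P] [Algebra R P]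
    {x : Λ → ℕ → P} (hx : DPSys x) (b : Module.Basis (Λ →₀ ℕ) R P)
    (hb : ∀ e : Λ →₀ ℕ, b e = mon x e)

/-- the retraction of the integral form onto its augmentation ideal -/
theorem exists_retract : ∃ ρ : PZ Λ →ₗ[ℤ] aug (xZ Λ), ∀ i : aug (xZ Λ), ρ i = i := by
  have hmem : ∀ p : PZ Λ, p - (bZ Λ).repr p 0 • (1 : PZ Λ) ∈ aug (xZ Λ) := by
    intro p
    rw [mem_aug_iff (xZ_sys Λ) (bZ Λ) (bZ_apply Λ), map_sub, map_smul]
    have : (1 : PZ Λ) = bZ Λ 0 := by rw [bZ_apply, mon_zero]
    rw [this, Module.Basis.repr_self]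
    simp
  refine ⟨{ toFun := fun p => ⟨p - (bZ Λ).repr p 0 • (1 : PZ Λ), hmem p⟩
            map_add' := fun p q => ?_
            map_smul' := fun n p => ?_ }, fun i => ?_⟩
  · apply Subtype.ext
    simp only [map_add, Finsupp.add_apply, add_smul, Submodule.coe_add]
    ring
  · apply Subtype.ext
    simp only [map_smul, Finsupp.smul_apply, RingHom.id_apply, smul_eq_mul, mul_smul,
      Submodule.coe_smul_of_tower, smul_sub]
  · apply Subtype.ext
    change (i : PZ Λ) - (bZ Λ).repr i 0 • (1 : PZ Λ) = i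
    rw [(mem_aug_iff (xZ_sys Λ) (bZ Λ) (bZ_apply Λ) i).mp i.2, zero_smul, sub_zero]

/-- the comparison map -/
noncomputable def comp : R ⊗[ℤ] PZ Λ →ₐ[R] P :=
  Algebra.TensorProduct.lift (Algebra.ofId R P) (lift (xZ_sys Λ) (bZ Λ) (bZ_apply Λ) hx)
    (fun _ _ => Commute.all _ _)

theorem comp_one_tmul_x (l : Λ) (n : ℕ) : comp (R := R) hx (1 ⊗ₜ xZ Λ l n) = x l n := by
  unfold comp
  rw [Algebra.TensorProduct.lift_tmul, map_one, one_mul, lift_x]

include b hb in
theorem comp_bijective : Function.Bijective (comp (R := R) hx) := by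
  have h1 : (comp (R := R) hx).toLinearMap =
      ((Algebra.TensorProduct.basis R (bZ Λ)).equiv b (Equiv.refl _)).toLinearMap := by
    refine (Algebra.TensorProduct.basis R (bZ Λ)).ext fun e => ?_
    rw [LinearEquiv.coe_coe, Module.Basis.equiv_apply, Equiv.refl_apply, hb,
      Algebra.TensorProduct.basis_apply]
    change comp (R := R) hx (1 ⊗ₜ bZ Λ e) = _
    unfold comp
    rw [Algebra.TensorProduct.lift_tmul, map_one, one_mul, lift_basis]
  have h2 : ⇑(comp (R := R) hx) =
      ⇑((Algebra.TensorProduct.basis R (bZ Λ)).equiv b (Equiv.refl _)) := by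
    ext z
    exact LinearMap.congr_fun h1 z
  rw [h2]
  exact LinearEquiv.bijective _

include hx b hb in
/-- Divided powers on the augmentation ideal of a divided power polynomial algebra. -/
theorem exists_dp : ∃ γ : DividedPowers (aug x), ∀ l n, γ.dpow n (x l 1) = x l n := by
  obtain ⟨ρ, hρ⟩ := exists_retract (Λ := Λ)
  obtain ⟨δ, hδ⟩ := exists_of_injective (B := PZ Λ ⊗[ℤ] R) (γZ Λ)
    (mu_injective_of_retract R ρ hρ)
  let e : (PZ Λ ⊗[ℤ] R) ≃+* P :=
    (Algebra.TensorProduct.comm ℤ (PZ Λ) R).toRingEquiv.trans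
      (RingEquiv.ofBijective (comp (R := R) hx) (comp_bijective hx b hb))
  have he : ∀ l n, e (algebraMap (PZ Λ) (PZ Λ ⊗[ℤ] R) (xZ Λ l n)) = x l n := by
    intro l n
    rw [Algebra.TensorProduct.algebraMap_apply, Algebra.algebraMap_self, RingHom.id_apply]
    change comp (R := R) hx (Algebra.TensorProduct.comm ℤ (PZ Λ) R (xZ Λ l n ⊗ₜ 1)) = _
    rw [Algebra.TensorProduct.comm_tmul, comp_one_tmul_x]
  have hmap : ((aug (xZ Λ)).map (algebraMap (PZ Λ) (PZ Λ ⊗[ℤ] R))).map e = aug x := by
    rw [aug, Ideal.map_span, Ideal.map_span, aug]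
    congr 1
    ext y
    constructor
    · rintro ⟨_, ⟨_, ⟨l, n, hn, rfl⟩, rfl⟩, rfl⟩
      exact ⟨l, n, hn, he l n⟩
    · rintro ⟨l, n, hn, rfl⟩
      exact ⟨_, ⟨_, ⟨l, n, hn, rfl⟩, rfl⟩, he l n⟩
  refine ⟨DividedPowers.ofRingEquiv hmap δ, fun l n => ?_⟩
  rw [← he l 1, ← he l n]
  refine (DividedPowers.ofRingEquiv_dpow_apply hmap δ).trans ?_
  refine congrArg e ?_
  refine (hδ.dpow_comp _ (x_mem_aug l one_ne_zero)).trans ?_
  exact congrArg _ (γZ_dpow Λ l n)

include hx in
omit [Algebra R P] in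
/-- Uniqueness of the divided powers with `γ_n(x_l) = x_l^[n]`. -/
theorem dp_unique (γ γ' : DividedPowers (aug x)) (h : ∀ l n, γ.dpow n (x l 1) = x l n)
    (h' : ∀ l n, γ'.dpow n (x l 1) = x l n) : γ = γ' := by
  refine (DividedPowers.dpow_eq_from_gens γ γ'
    (S := {y : P | ∃ (l : Λ) (n : ℕ), 1 ≤ n ∧ y = x l n}) rfl ?_).symm
  rintro m _ ⟨l, n, hn, rfl⟩
  rw [← h l n, γ.dpow_comp (by omega) (x_mem_aug l one_ne_zero), h, h, ← h' l n,
    γ'.dpow_comp (by omega) (x_mem_aug l one_ne_zero), h']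

end Poly

end K977.BaseChange
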