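import Groth.Prelude.Def_DeRham
import Mathlib.LinearAlgebra.CliffordAlgebra.Contraction
import Mathlib.LinearAlgebra.ExteriorPower.Basic
import Mathlib.Tactic.Module
import Mathlib.Tactic.Abel

/-!
Calculus on differential forms over a receptacle `(M, D)`: wedge with a one-form, Leibniz rule,
contraction, and the Poincaré lemma in one divided power variable.
-/

set_option autoImplicit false

namespace K977.Forms

universe u v

open exteriorPower DeRham

section Wedge

variable {P : Type u} [CommRing P] {M : Type u} [AddCommGroup M] [Module P M]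

/-- wedge with a one-form on the left -/
noncomputable def wedge (m : M) (p : ℕ) : ↥(⋀[P]^p M) →ₗ[P] ↥(⋀[P]^(p + 1) M) :=
  (LinearMap.mulLeft P (ExteriorAlgebra.ι P m)).restrict (fun ω hω => by
    rw [LinearMap.mulLeft_apply]
    change _ ∈ (LinearMap.range (ExteriorAlgebra.ι P (M := M))) ^ (p + 1)
    rw [pow_succ']
    exact Submodule.mul_mem_mul (LinearMap.mem_range_self _ _) hω)

theorem wedge_coe (m : M) (p : ℕ) (ω : ↥(⋀[P]^p M)) :
    ((wedge m p ω : ↥(⋀[P]^(p + 1) M)) : ExteriorAlgebra P M) = ExteriorAlgebra.ι P m * ω := rfl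

theorem wedge_add (m m' : M) (p : ℕ) (ω : ↥(⋀[P]^p M)) :
    wedge (m + m') p ω = wedge m p ω + wedge m' p ω := by
  apply Subtype.ext
  rw [Submodule.coe_add, wedge_coe, wedge_coe, wedge_coe, map_add, add_mul]

theorem wedge_smul (f : P) (m : M) (p : ℕ) (ω : ↥(⋀[P]^p M)) :
    wedge (f • m) p ω = f • wedge m p ω := by
  apply Subtype.ext
  rw [Submodule.coe_smul, wedge_coe, wedge_coe, map_smul, smul_mul_assoc]

theorem wedge_zero (p : ℕ) (ω : ↥(⋀[P]^p M)) : wedge (0 : M) p ω = 0 := by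
  apply Subtype.ext
  rw [wedge_coe, map_zero, zero_mul]
  rfl

theorem wedge_self (m : M) (p : ℕ) (ω : ↥(⋀[P]^p M)) : wedge m (p + 1) (wedge m p ω) = 0 := by
  apply Subtype.ext
  rw [wedge_coe, wedge_coe, ← mul_assoc, ExteriorAlgebra.ι_sq_zero, zero_mul]
  rfl

theorem wedge_comm (m m' : M) (p : ℕ) (ω : ↥(⋀[P]^p M)) :
    wedge m (p + 1) (wedge m' p ω) = - wedge m' (p + 1) (wedge m p ω) := by
  have h := wedge_self (m + m') p ω
  rw [wedge_add m m' p, map_add, wedge_add m m' (p + 1), wedge_add m m' (p + 1), wedge_self,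
    wedge_self, zero_add, add_zero] at h
  exact eq_neg_of_add_eq_zero_right h

theorem wedge_ιMulti (m : M) (p : ℕ) (v : Fin p → M) :
    wedge m p (exteriorPower.ιMulti P p v) = exteriorPower.ιMulti P (p + 1) (Fin.cons m v) := by
  apply Subtype.ext
  rw [wedge_coe, exteriorPower.ιMulti_apply_coe, exteriorPower.ιMulti_apply_coe,
    ExteriorAlgebra.ιMulti_succ_apply]
  rfl

end Wedge

section Rule

variable {R : Type v} {P : Type u} [CommRing R] [CommRing P] [Algebra R P]
  {M : Type u} [AddCommGroup M] [Module P M] [Module R M]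

theorem gen_succ (D : Derivation R P M) (p : ℕ) (b₀ : P) (b : Fin (p + 1) → P) :
    gen D (p + 1) b₀ b = b₀ • wedge (D (b 0)) p (gen D p 1 (Fin.tail b)) := by
  unfold gen
  rw [one_smul, wedge_ιMulti]
  congr 2
  ext i
  refine Fin.cases ?_ (fun i => ?_) i
  · rfl
  · rfl

variable (D : Derivation R P M) (hspan : Submodule.span P (Set.range D) = ⊤)

/-- the additive group generated by the forms `b₀ db₁ ∧ … ∧ db_p` with all `b_j` in a subring -/
def F (S : Subring P) (p : ℕ) : AddSubgroup ↥(⋀[P]^p M) :=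
  AddSubgroup.closure {ω | ∃ (b₀ : P) (b : Fin p → P), b₀ ∈ S ∧ (∀ j, b j ∈ S) ∧ ω = gen D p b₀ b}

theorem gen_mem_F {S : Subring P} {p : ℕ} {b₀ : P} {b : Fin p → P} (h₀ : b₀ ∈ S)
    (h : ∀ j, b j ∈ S) : gen D p b₀ b ∈ F D S p :=
  AddSubgroup.subset_closure ⟨b₀, b, h₀, h, rfl⟩

theorem smul_mem_F {S : Subring P} {p : ℕ} {c : P} (hc : c ∈ S) {ω : ↥(⋀[P]^p M)}
    (hω : ω ∈ F D S p) : c • ω ∈ F D S p := by
  induction hω using AddSubgroup.closure_induction with
  | mem ω hω =>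
    obtain ⟨b₀, b, h₀, h, rfl⟩ := hω
    have : c • gen D p b₀ b = gen D p (c * b₀) b := by unfold gen; rw [mul_smul]
    rw [this]
    exact gen_mem_F D (S.mul_mem hc h₀) h
  | zero => rw [smul_zero]; exact AddSubgroup.zero_mem _
  | add x y _ _ hx hy => rw [smul_add]; exact AddSubgroup.add_mem _ hx hy
  | neg x _ hx => rw [smul_neg]; exact AddSubgroup.neg_mem _ hx

theorem wedge_mem_F {S : Subring P} {p : ℕ} {c : P} (hc : c ∈ S) {ω : ↥(⋀[P]^p M)}
    (hω : ω ∈ F D S p) : wedge (D c) p ω ∈ F D S (p + 1) := by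
  induction hω using AddSubgroup.closure_induction with
  | mem ω hω =>
    obtain ⟨b₀, b, h₀, h, rfl⟩ := hω
    have : wedge (D c) p (gen D p b₀ b) = gen D (p + 1) b₀ (Fin.cons c b) := by
      rw [gen_succ, Fin.cons_zero, Fin.tail_cons]
      unfold gen
      rw [map_smul, one_smul]
    rw [this]
    refine gen_mem_F D h₀ fun j => ?_
    refine Fin.cases ?_ (fun j => ?_) j
    · exact hc
    · exact h j
  | zero => rw [map_zero]; exact AddSubgroup.zero_mem _
  | add x y _ _ hx hy => rw [map_add]; exact AddSubgroup.add_mem _ hx hy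
  | neg x _ hx => rw [map_neg]; exact AddSubgroup.neg_mem _ hx

include hspan in
theorem F_top (p : ℕ) : F D ⊤ p = ⊤ := by
  rw [eq_top_iff]
  intro ω _
  have h := exteriorPower.ιMulti_span_of_span P p M hspan
  have hω : ω ∈ Submodule.span P
      ((exteriorPower.ιMulti P p) '' {a : Fin p → M | Set.range a ⊆ Set.range D}) := by
    rw [h]; trivial
  induction hω using Submodule.span_induction with
  | mem ω hω =>
    obtain ⟨a, ha, rfl⟩ := hω
    choose b hb using fun j => ha ⟨j, rfl⟩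
    have : (exteriorPower.ιMulti P p) a = gen D p 1 b := by
      unfold gen
      rw [one_smul]
      congr 1
      ext j
      exact (hb j).symm
    rw [this]
    exact gen_mem_F D trivial fun _ => trivial
  | zero => exact AddSubgroup.zero_mem _
  | add x y _ _ hx hy => exact AddSubgroup.add_mem _ (hx trivial) (hy trivial)
  | smul c x _ hx => exact smul_mem_F D (Subring.mem_top c) (hx trivial)

variable [IsScalarTower R P M] {D}
  {d : ∀ p : ℕ, ↥(⋀[P]^p M) →ₗ[R] ↥(⋀[P]^(p + 1) M)} (hd : IsRule D d)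

include hd in
theorem d_gen (p : ℕ) (b₀ : P) (b : Fin p → P) :
    d p (gen D p b₀ b) = gen D (p + 1) 1 (Fin.cons b₀ b) := by
  rw [hd]
  unfold gen
  rw [one_smul]
  congr 1
  ext j
  refine Fin.cases ?_ (fun j => ?_) j
  · rfl
  · rfl

include hd in
theorem d_mem_F {S : Subring P} {p : ℕ} {ω : ↥(⋀[P]^p M)}
    (hω : ω ∈ F D S p) : d p ω ∈ F D S (p + 1) := by
  induction hω using AddSubgroup.closure_induction with
  | mem ω hω =>
    obtain ⟨b₀, b, h₀, h, rfl⟩ := hω
    rw [d_gen hd]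
    refine gen_mem_F D S.one_mem fun j => ?_
    refine Fin.cases ?_ (fun j => ?_) j
    · exact h₀
    · exact h j
  | zero => rw [map_zero]; exact AddSubgroup.zero_mem _
  | add x y _ _ hx hy => rw [map_add]; exact AddSubgroup.add_mem _ hx hy
  | neg x _ hx => rw [map_neg]; exact AddSubgroup.neg_mem _ hx

include hd hspan in
/-- Leibniz rule -/
theorem d_smul (p : ℕ) (f : P) (ω : ↥(⋀[P]^p M)) :
    d p (f • ω) = wedge (D f) p ω + f • d p ω := by
  have hω : ω ∈ F D ⊤ p := by rw [F_top D hspan]; trivial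
  induction hω using AddSubgroup.closure_induction with
  | mem ω hω =>
    obtain ⟨b₀, b, h₀, h, rfl⟩ := hω
    have h1 : f • gen D p b₀ b = gen D p (f * b₀) b := by unfold gen; rw [mul_smul]
    have h2 : ∀ c : P, d p (gen D p c b) = wedge (D c) p (gen D p 1 b) := by
      intro c
      rw [d_gen hd, gen_succ, Fin.cons_zero, Fin.tail_cons, one_smul]
    have h3 : gen D p b₀ b = b₀ • gen D p 1 b := by unfold gen; rw [one_smul]
    rw [h1, h2, h2, Derivation.leibniz, wedge_add, wedge_smul, wedge_smul, h3, map_smul]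
    abel
  | zero => simp
  | add x y _ _ hx hy => rw [smul_add, map_add, hx, hy, map_add, map_add, smul_add]; abel
  | neg x _ hx => rw [smul_neg, map_neg, hx, map_neg, map_neg, smul_neg, neg_add]

end Rule

section Contract

variable {R : Type v} {P : Type u} [CommRing R] [CommRing P] [Algebra R P]
  {M : Type u} [AddCommGroup M] [Module P M] [Module R M] {D : Derivation R P M}

/-- contraction in the exterior algebra -/
noncomputable def contr (θ : M →ₗ[P] P) : ExteriorAlgebra P M →ₗ[P] ExteriorAlgebra P M :=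
  CliffordAlgebra.contractLeft (Q := (0 : QuadraticForm P M)) θ

theorem contr_ι_mul (θ : M →ₗ[P] P) (m : M) (x : ExteriorAlgebra P M) :
    contr θ (ExteriorAlgebra.ι P m * x) = θ m • x - ExteriorAlgebra.ι P m * contr θ x :=
  CliffordAlgebra.contractLeft_ι_mul _ m x

theorem contr_of_F (θ : M →ₗ[P] P) {S : Subring P} (hθ : ∀ c ∈ S, θ (D c) = 0) {p : ℕ}
    {ω : ↥(⋀[P]^p M)} (hω : ω ∈ F D S p) : contr θ (ω : ExteriorAlgebra P M) = 0 := by
  induction hω using AddSubgroup.closure_induction with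
  | mem ω hω =>
    obtain ⟨b₀, b, h₀, h, rfl⟩ := hω
    clear h₀
    induction p generalizing b₀ with
    | zero =>
      unfold gen
      rw [Submodule.coe_smul, map_smul, exteriorPower.ιMulti_apply_coe,
        ExteriorAlgebra.ιMulti_zero_apply]
      have : contr θ (1 : ExteriorAlgebra P M) = 0 := CliffordAlgebra.contractLeft_one _ _
      rw [this, smul_zero]
    | succ p ih =>
      rw [gen_succ, Submodule.coe_smul, map_smul, wedge_coe, contr_ι_mul, hθ _ (h 0),
        ih (ω := 0) 1 (Fin.tail b) (fun j => h j.succ)]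
      simp
  | zero => simp
  | add x y _ _ hx hy => rw [Submodule.coe_add, map_add, hx, hy, add_zero]
  | neg x _ hx => rw [Submodule.coe_neg, map_neg, hx, neg_zero]

end Contract

section Poincare

variable {R : Type v} {P : Type u} [CommRing R] [CommRing P] [Algebra R P]
  {M : Type u} [AddCommGroup M] [Module P M] [Module R M] {D : Derivation R P M}
  (S S' : Subring P) (x : ℕ → P) (hx0 : x 0 = 1)
  (hxm : ∀ a b, x a * x b = ((a + b).choose a : P) * x (a + b))
  (hDx : ∀ m, D (x (m + 1)) = x m • D (x 1))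
  (hS' : ∀ b ∈ S', b ∈ AddSubgroup.closure {y : P | ∃ (m : ℕ) (c : P), c ∈ S ∧ y = x m * c})

variable (D) in
/-- forms without `dx` -/
def G (p : ℕ) : AddSubgroup ↥(⋀[P]^p M) :=
  AddSubgroup.closure {ω | ∃ (m : ℕ) (α : ↥(⋀[P]^p M)), α ∈ F D S p ∧ ω = x m • α}

variable (D) in
/-- forms `Σ x^[m] α_m + Σ x^[m] dx ∧ β_m` -/
def E : (p : ℕ) → AddSubgroup ↥(⋀[P]^p M)
  | 0 => G D S x 0
  | p + 1 => G D S x (p + 1) ⊔ AddSubgroup.closure
      {ω | ∃ (m : ℕ) (β : ↥(⋀[P]^p M)), β ∈ F D S p ∧ ω = x m • wedge (D (x 1)) p β}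

theorem mem_G {p : ℕ} (m : ℕ) {α : ↥(⋀[P]^p M)} (hα : α ∈ F D S p) : x m • α ∈ G D S x p :=
  AddSubgroup.subset_closure ⟨m, α, hα, rfl⟩

theorem G_le_E (p : ℕ) : G D S x p ≤ E D S x p := by
  rcases p with _ | p
  · exact le_refl _
  · exact le_sup_left

theorem mem_E {p : ℕ} (m : ℕ) {β : ↥(⋀[P]^p M)} (hβ : β ∈ F D S p) :
    x m • wedge (D (x 1)) p β ∈ E D S x (p + 1) :=
  AddSubgroup.mem_sup_right (AddSubgroup.subset_closure ⟨m, β, hβ, rfl⟩)

/-- induction principle for `E` -/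
theorem E_induction (C : ∀ p : ℕ, ↥(⋀[P]^p M) → Prop)
    (h1 : ∀ (p m : ℕ) (α : ↥(⋀[P]^p M)), α ∈ F D S p → C p (x m • α))
    (h2 : ∀ (p m : ℕ) (β : ↥(⋀[P]^p M)), β ∈ F D S p → C (p + 1) (x m • wedge (D (x 1)) p β))
    (h0 : ∀ p, C p 0) (ha : ∀ p a b, C p a → C p b → C p (a + b))
    (hn : ∀ p a, C p a → C p (-a))
    {p : ℕ} {ω : ↥(⋀[P]^p M)} (hω : ω ∈ E D S x p) : C p ω := by
  have hG : ∀ ω ∈ G D S x p, C p ω := by
    intro ω hω
    induction hω using AddSubgroup.closure_induction with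
    | mem ω hω => obtain ⟨m, α, hα, rfl⟩ := hω; exact h1 p m α hα
    | zero => exact h0 p
    | add x y _ _ hx hy => exact ha p _ _ hx hy
    | neg x _ hx => exact hn p _ hx
  rcases p with _ | p
  · exact hG ω hω
  · obtain ⟨a, ha', b, hb, rfl⟩ := AddSubgroup.mem_sup.mp hω
    refine ha _ _ _ (hG a ha') ?_
    clear hω ha'
    induction hb using AddSubgroup.closure_induction with
    | mem ω hω => obtain ⟨m, β, hβ, rfl⟩ := hω; exact h2 p m β hβ
    | zero => exact h0 _
    | add x y _ _ hx hy => exact ha _ _ _ hx hy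
    | neg x _ hx => exact hn _ _ hx

include hxm in
theorem x_smul_mem_E (a p : ℕ) {ω : ↥(⋀[P]^p M)} (hω : ω ∈ E D S x p) :
    x a • ω ∈ E D S x p := by
  have key : ∀ (m : ℕ) {q : ℕ} (α : ↥(⋀[P]^q M)), x a • x m • α = ((a + m).choose a) • x (a + m) • α := by
    intro m q α
    rw [smul_smul, hxm, ← nsmul_eq_mul, smul_assoc]
  refine E_induction S x (fun p ω => x a • ω ∈ E D S x p) ?_ ?_ ?_ ?_ ?_ hω
  · intro p m α hα
    rw [key]
    exact AddSubgroup.nsmul_mem _ (G_le_E S x p (mem_G S x _ hα)) _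
  · intro q m β hβ
    rw [key]
    exact AddSubgroup.nsmul_mem _ (mem_E S x _ hβ) _
  · intro p; rw [smul_zero]; exact AddSubgroup.zero_mem _
  · intro p a b ha hb; rw [smul_add]; exact AddSubgroup.add_mem _ ha hb
  · intro p a ha; rw [smul_neg]; exact AddSubgroup.neg_mem _ ha

theorem c_smul_mem_E {c : P} (hc : c ∈ S) (p : ℕ) {ω : ↥(⋀[P]^p M)} (hω : ω ∈ E D S x p) :
    c • ω ∈ E D S x p := by
  refine E_induction S x (fun p ω => c • ω ∈ E D S x p) ?_ ?_ ?_ ?_ ?_ hω
  · intro p m α hα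
    rw [smul_comm]
    exact G_le_E S x p (mem_G S x _ (smul_mem_F D hc hα))
  · intro q m β hβ
    rw [smul_comm, ← map_smul]
    exact mem_E S x _ (smul_mem_F D hc hβ)
  · intro p; rw [smul_zero]; exact AddSubgroup.zero_mem _
  · intro p a b ha hb; rw [smul_add]; exact AddSubgroup.add_mem _ ha hb
  · intro p a ha; rw [smul_neg]; exact AddSubgroup.neg_mem _ ha

theorem wedge_c_mem_E {c : P} (hc : c ∈ S) (p : ℕ) {ω : ↥(⋀[P]^p M)} (hω : ω ∈ E D S x p) :
    wedge (D c) p ω ∈ E D S x (p + 1) := by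
  refine E_induction S x (fun p ω => wedge (D c) p ω ∈ E D S x (p + 1)) ?_ ?_ ?_ ?_ ?_ hω
  · intro p m α hα
    rw [map_smul]
    exact G_le_E S x _ (mem_G S x _ (wedge_mem_F D hc hα))
  · intro q m β hβ
    rw [map_smul, wedge_comm, smul_neg]
    exact AddSubgroup.neg_mem _ (mem_E S x _ (wedge_mem_F D hc hβ))
  · intro p; rw [map_zero]; exact AddSubgroup.zero_mem _
  · intro p a b ha hb; rw [map_add]; exact AddSubgroup.add_mem _ ha hb
  · intro p a ha; rw [map_neg]; exact AddSubgroup.neg_mem _ ha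

theorem wedge_x_mem_E (p : ℕ) {ω : ↥(⋀[P]^p M)} (hω : ω ∈ E D S x p) :
    wedge (D (x 1)) p ω ∈ E D S x (p + 1) := by
  refine E_induction S x (fun p ω => wedge (D (x 1)) p ω ∈ E D S x (p + 1)) ?_ ?_ ?_ ?_ ?_ hω
  · intro p m α hα
    rw [map_smul]
    exact mem_E S x _ hα
  · intro q m β hβ
    rw [map_smul, wedge_self, smul_zero]
    exact AddSubgroup.zero_mem _
  · intro p; rw [map_zero]; exact AddSubgroup.zero_mem _
  · intro p a b ha hb; rw [map_add]; exact AddSubgroup.add_mem _ ha hb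
  · intro p a ha; rw [map_neg]; exact AddSubgroup.neg_mem _ ha

include hxm hS' in
theorem b_smul_mem_E {b : P} (hb : b ∈ S') (p : ℕ) {ω : ↥(⋀[P]^p M)} (hω : ω ∈ E D S x p) :
    b • ω ∈ E D S x p := by
  have hb' := hS' b hb
  clear hb
  induction hb' using AddSubgroup.closure_induction with
  | mem b hb =>
    obtain ⟨m, c, hc, rfl⟩ := hb
    rw [mul_smul]
    exact x_smul_mem_E S x hxm m p (c_smul_mem_E S x hc p hω)
  | zero => rw [zero_smul]; exact AddSubgroup.zero_mem _
  | add a b _ _ ha hb => rw [add_smul]; exact AddSubgroup.add_mem _ ha hb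
  | neg a _ ha =>
    have h1 : (-a) • ω = -(a • ω) := neg_smul a ω
    rw [h1]; exact AddSubgroup.neg_mem _ ha

include hx0 hxm hDx hS' in
theorem wedge_b_mem_E {b : P} (hb : b ∈ S') (p : ℕ) {ω : ↥(⋀[P]^p M)} (hω : ω ∈ E D S x p) :
    wedge (D b) p ω ∈ E D S x (p + 1) := by
  have hb' := hS' b hb
  clear hb
  induction hb' using AddSubgroup.closure_induction with
  | mem b hb =>
    obtain ⟨m, c, hc, rfl⟩ := hb
    rw [Derivation.leibniz, wedge_add, wedge_smul, wedge_smul]
    refine AddSubgroup.add_mem _ (x_smul_mem_E S x hxm m _ (wedge_c_mem_E S x hc p hω)) ?_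
    refine c_smul_mem_E S x hc _ ?_
    rcases m with _ | m
    · rw [hx0, Derivation.map_one_eq_zero, wedge_zero]
      exact AddSubgroup.zero_mem _
    · rw [hDx, wedge_smul]
      exact x_smul_mem_E S x hxm m _ (wedge_x_mem_E S x p hω)
  | zero => rw [map_zero, wedge_zero]; exact AddSubgroup.zero_mem _
  | add a b _ _ ha hb => rw [map_add, wedge_add]; exact AddSubgroup.add_mem _ ha hb
  | neg a _ ha =>
    have h1 : wedge (D (-a)) p ω + wedge (D a) p ω = 0 := by
      rw [← wedge_add, map_neg, neg_add_cancel, wedge_zero]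
    rw [eq_neg_of_add_eq_zero_left h1]; exact AddSubgroup.neg_mem _ ha

include hx0 hxm hDx hS' in
/-- every form with coefficients in `S'` is of the shape `E` -/
theorem F_le_E (p : ℕ) : F D S' p ≤ E D S x p := by
  rw [F, AddSubgroup.closure_le]
  rintro _ ⟨b₀, b, h₀, h, rfl⟩
  rw [SetLike.mem_coe]
  induction p generalizing b₀ with
  | zero =>
    have h1 : gen D 0 b₀ b = b₀ • gen D 0 1 b := by unfold gen; rw [one_smul]
    rw [h1]
    refine b_smul_mem_E S S' x hxm hS' h₀ 0 ?_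
    have h2 : gen D 0 1 b = x 0 • gen D 0 1 b := by rw [hx0, one_smul]
    rw [h2]
    exact mem_G S x 0 (gen_mem_F D S.one_mem fun j => j.elim0)
  | succ p ih =>
    rw [gen_succ]
    refine b_smul_mem_E S S' x hxm hS' h₀ _ ?_
    exact wedge_b_mem_E S S' x hx0 hxm hDx hS' (h 0) _
      (ih 1 (Fin.tail b) S'.one_mem fun j => h j.succ)

/-- explicit expansions of elements of `G` -/
theorem exists_expansion {p : ℕ} {ω : ↥(⋀[P]^p M)} (hω : ω ∈ G D S x p) :
    ∃ (N : ℕ) (α : ℕ → ↥(⋀[P]^p M)), (∀ m, α m ∈ F D S p) ∧ (∀ m, N < m → α m = 0) ∧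
      ω = ∑ m ∈ Finset.range (N + 1), x m • α m := by
  have hext : ∀ (N N' : ℕ) (α : ℕ → ↥(⋀[P]^p M)), (∀ m, N < m → α m = 0) → N ≤ N' →
      ∑ m ∈ Finset.range (N + 1), x m • α m = ∑ m ∈ Finset.range (N' + 1), x m • α m := by
    intro N N' α hα hN
    refine Finset.sum_subset (Finset.range_subset_range.mpr (by omega)) fun m _ hm => ?_
    rw [Finset.mem_range, not_lt] at hm
    rw [hα m (by omega), smul_zero]
  induction hω using AddSubgroup.closure_induction with
  | mem ω hω =>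
    obtain ⟨m, α, hα, rfl⟩ := hω
    refine ⟨m, fun k => if k = m then α else 0, fun k => ?_, fun k hk => if_neg (by omega), ?_⟩
    · dsimp only
      split_ifs
      · exact hα
      · exact AddSubgroup.zero_mem _
    · rw [Finset.sum_eq_single m]
      · simp
      · intro k _ hk; simp [hk]
      · intro h; exact absurd (Finset.mem_range.mpr (by omega)) h
  | zero => exact ⟨0, fun _ => 0, fun _ => AddSubgroup.zero_mem _, fun _ _ => rfl, by simp⟩
  | add a b _ _ ha hb =>
    obtain ⟨N, α, h1, h2, rfl⟩ := ha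
    obtain ⟨N', α', h1', h2', rfl⟩ := hb
    refine ⟨N + N', fun m => α m + α' m, fun m => AddSubgroup.add_mem _ (h1 m) (h1' m),
      fun m hm => ?_, ?_⟩
    · change α m + α' m = 0
      rw [h2 m (by omega), h2' m (by omega), add_zero]
    · rw [hext N (N + N') α h2 (by omega), hext N' (N + N') α' h2' (by omega),
        ← Finset.sum_add_distrib]
      exact Finset.sum_congr rfl fun m _ => (smul_add _ _ _).symm
  | neg a _ ha =>
    obtain ⟨N, α, h1, h2, rfl⟩ := ha
    refine ⟨N, fun m => - α m, fun m => AddSubgroup.neg_mem _ (h1 m), fun m hm => ?_, ?_⟩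
    · change - α m = 0
      rw [h2 m hm, neg_zero]
    · rw [← Finset.sum_neg_distrib]
      exact Finset.sum_congr rfl fun m _ => (smul_neg _ _).symm

variable (hspan : Submodule.span P (Set.range D) = ⊤) [IsScalarTower R P M]
  {d : ∀ p : ℕ, ↥(⋀[P]^p M) →ₗ[R] ↥(⋀[P]^(p + 1) M)} (hd : IsRule D d)

include hDx hspan hd in
/-- modulo exact forms the terms with `dx` can be removed -/
theorem exists_sub_exact {p : ℕ} {ω : ↥(⋀[P]^(p + 1) M)} (hω : ω ∈ E D S x (p + 1)) :
    ∃ η : ↥(⋀[P]^p M), ω - d p η ∈ G D S x (p + 1) := by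
  obtain ⟨a, ha, b, hb, rfl⟩ := AddSubgroup.mem_sup.mp hω
  suffices h : ∃ η : ↥(⋀[P]^p M), b - d p η ∈ G D S x (p + 1) by
    obtain ⟨η, hη⟩ := h
    refine ⟨η, ?_⟩
    rw [add_sub_assoc]
    exact AddSubgroup.add_mem _ ha hη
  clear hω ha
  induction hb using AddSubgroup.closure_induction with
  | mem ω hω =>
    obtain ⟨m, β, hβ, rfl⟩ := hω
    refine ⟨x (m + 1) • β, ?_⟩
    rw [d_smul hspan hd, hDx m, wedge_smul, sub_add_cancel_left]
    exact AddSubgroup.neg_mem _ (mem_G S x _ (d_mem_F hd hβ))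
  | zero => exact ⟨0, by rw [map_zero, sub_zero]; exact AddSubgroup.zero_mem _⟩
  | add a b _ _ ha hb =>
    obtain ⟨η, h⟩ := ha
    obtain ⟨η', h'⟩ := hb
    refine ⟨η + η', ?_⟩
    rw [map_add, add_sub_add_comm]
    exact AddSubgroup.add_mem _ h h'
  | neg a _ ha =>
    obtain ⟨η, h⟩ := ha
    refine ⟨-η, ?_⟩
    have : -a - d p (-η) = -(a - d p η) := by rw [map_neg]; abel
    rw [this]
    exact AddSubgroup.neg_mem _ h

include hx0 hDx hspan hd in
/-- coefficients of a closed form without `dx` -/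
theorem coeff_eq_zero (θ : M →ₗ[P] P) (hθ : ∀ c ∈ S, θ (D c) = 0) (hθx : θ (D (x 1)) = 1) (p N : ℕ) :
    ∀ (α : ℕ → ↥(⋀[P]^p M)), (∀ m, α m ∈ F D S p) →
      d p (∑ m ∈ Finset.range (N + 1), x m • α m) = 0 → ∀ m, 1 ≤ m → m ≤ N → α m = 0 := by
  have key : ∀ (N : ℕ) (α : ℕ → ↥(⋀[P]^p M)), (∀ m, α m ∈ F D S p) →
      d p (∑ m ∈ Finset.range (N + 2), x m • α m) = 0 →
        ∑ m ∈ Finset.range (N + 1), x m • α (m + 1) = 0 := by
    intro N α hα h
    have h1 := congrArg (fun ω : ↥(⋀[P]^(p + 1) M) => contr θ (ω : ExteriorAlgebra P M)) h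
    simp only [ZeroMemClass.coe_zero, map_zero] at h1
    rw [map_sum, Finset.sum_range_succ'] at h1
    have h2 : ∀ m, contr θ ((d p (x (m + 1) • α (m + 1)) : ↥(⋀[P]^(p + 1) M)) : ExteriorAlgebra P M) =
        ((x m • α (m + 1) : ↥(⋀[P]^p M)) : ExteriorAlgebra P M) := by
      intro m
      rw [d_smul hspan hd, Submodule.coe_add, map_add, Submodule.coe_smul, map_smul,
        contr_of_F θ hθ (d_mem_F hd (hα (m + 1))), smul_zero, add_zero, wedge_coe, contr_ι_mul,
        contr_of_F θ hθ (hα (m + 1)), mul_zero, sub_zero, hDx, map_smul, hθx, smul_eq_mul, mul_one,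
        Submodule.coe_smul]
    have h3 : contr θ ((d p (x 0 • α 0) : ↥(⋀[P]^(p + 1) M)) : ExteriorAlgebra P M) = 0 := by
      rw [hx0, one_smul]
      exact contr_of_F θ hθ (d_mem_F hd (hα 0))
    rw [Submodule.coe_add, map_add, h3, add_zero, AddSubmonoidClass.coe_finsetSum, map_sum,
      Finset.sum_congr rfl fun m _ => h2 m, ← AddSubmonoidClass.coe_finsetSum] at h1
    exact Subtype.ext h1
  induction N with
  | zero => intro α _ _ m h1 h2; omega
  | succ N ih =>
    intro α hα h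
    have h1 := key N α hα h
    have h2 := ih (fun m => α (m + 1)) (fun m => hα (m + 1)) (by rw [h1, map_zero])
    have h3 : ∀ m, 2 ≤ m → m ≤ N + 1 → α m = 0 := by
      intro m hm hm'
      obtain ⟨k, rfl⟩ : ∃ k, m = k + 1 := ⟨m - 1, by omega⟩
      exact h2 k (by omega) (by omega)
    have h4 : α 1 = 0 := by
      rw [Finset.sum_range_succ', hx0, one_smul] at h1
      rw [Finset.sum_eq_zero, zero_add] at h1
      · exact h1
      · intro m hm
        rw [Finset.mem_range] at hm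
        rw [h3 _ (by omega) (by omega), smul_zero]
    intro m hm hm'
    rcases Nat.lt_or_ge 1 m with h5 | h5
    · exact h3 m (by omega) hm'
    · obtain rfl : m = 1 := by omega
      exact h4

include hx0 hDx hspan hd in
theorem mem_F_of_closed (θ : M →ₗ[P] P) (hθ : ∀ c ∈ S, θ (D c) = 0) (hθx : θ (D (x 1)) = 1)
    {p : ℕ} {ω : ↥(⋀[P]^p M)} (hω : ω ∈ G D S x p) (hclosed : d p ω = 0) : ω ∈ F D S p := by
  obtain ⟨N, α, h1, h2, rfl⟩ := exists_expansion S x hω
  have h3 := coeff_eq_zero S x hx0 hDx hspan hd θ hθ hθx p N α h1 hclosed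
  rw [Finset.sum_range_succ', hx0, one_smul, Finset.sum_eq_zero, zero_add]
  · exact h1 0
  · intro m hm
    rw [Finset.mem_range] at hm
    rw [h3 _ (by omega) (by omega), smul_zero]

include hx0 hxm hDx hS' hspan hd in
/-- One step: a closed form over `S'` is, modulo exact forms, a closed form over `S`. -/
theorem step_succ (hdd : ∀ p, d (p + 1) ∘ₗ d p = 0) (θ : M →ₗ[P] P)
    (hθ : ∀ c ∈ S, θ (D c) = 0) (hθx : θ (D (x 1)) = 1)
    {p : ℕ} {ω : ↥(⋀[P]^(p + 1) M)} (hω : ω ∈ F D S' (p + 1)) (hclosed : d (p + 1) ω = 0) :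
    ∃ η : ↥(⋀[P]^p M), ω - d p η ∈ F D S (p + 1) := by
  obtain ⟨η, hη⟩ := exists_sub_exact S x hDx hspan hd
    (F_le_E S S' x hx0 hxm hDx hS' (p + 1) hω)
  refine ⟨η, mem_F_of_closed S x hx0 hDx hspan hd θ hθ hθx hη ?_⟩
  have : d (p + 1) (d p η) = 0 := LinearMap.congr_fun (hdd p) η
  rw [map_sub, hclosed, this, sub_zero]

include hx0 hxm hDx hS' hspan hd in
theorem step_zero (θ : M →ₗ[P] P)
    (hθ : ∀ c ∈ S, θ (D c) = 0) (hθx : θ (D (x 1)) = 1)
    {ω : ↥(⋀[P]^0 M)} (hω : ω ∈ F D S' 0) (hclosed : d 0 ω = 0) : ω ∈ F D S 0 :=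
  mem_F_of_closed S x hx0 hDx hspan hd θ hθ hθx
    (F_le_E S S' x hx0 hxm hDx hS' 0 hω) hclosed

end Poincare

end K977.Forms
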