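import Groth.Agent.DPow.K977.Univ
import Groth.Agent.DPow.K977.Forms
import Mathlib.RingTheory.Kaehler.Basic
import Mathlib.LinearAlgebra.Quotient.Basic

/-!
The de Rham complex of a divided power polynomial algebra.
-/

set_option autoImplicit false

namespace K977.DeRhamMain

universe u v

open exteriorPower DeRham K977.Forms

section Receptacle

variable (R : Type v) [CommRing R] {A : Type u} [CommRing A] [Algebra R A]
  (N : Submodule A (Ω[A⁄R]))

/-- the derivation into the quotient of the Kähler differentials -/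
noncomputable abbrev DQ : Derivation R A (Ω[A⁄R] ⧸ N) := N.mkQ.compDer (KaehlerDifferential.D R A)

theorem DQ_apply (a : A) : DQ R N a = N.mkQ (KaehlerDifferential.D R A a) := rfl

theorem span_DQ : Submodule.span A (Set.range (DQ R N)) = ⊤ := by
  have h1 : Set.range (DQ R N) = N.mkQ '' Set.range (KaehlerDifferential.D R A) := by
    rw [← Set.range_comp]; rfl
  rw [h1, ← Submodule.map_span, KaehlerDifferential.span_range_derivation, Submodule.map_top,
    Submodule.range_mkQ]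

variable {R N} {J : Ideal A} {δ : DividedPowers J}
  (hN : N = Submodule.span A {ω : Ω[A⁄R] | ∃ x ∈ J, ∃ m : ℕ,
      ω = KaehlerDifferential.D R A (δ.dpow (m + 1) x) - δ.dpow m x • KaehlerDifferential.D R A x})

include hN in
theorem DQ_dpow {x : A} (hx : x ∈ J) (m : ℕ) :
    DQ R N (δ.dpow (m + 1) x) = δ.dpow m x • DQ R N x := by
  rw [DQ_apply, DQ_apply, ← map_smul, ← sub_eq_zero, ← map_sub, Submodule.mkQ_apply,
    Submodule.Quotient.mk_eq_zero, hN]
  exact Submodule.subset_span ⟨x, hx, m, rfl⟩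

include hN in
/-- the functional attached to a divided power derivation -/
theorem exists_functional (D : Derivation R A A)
    (hD : ∀ x ∈ J, ∀ m : ℕ, D (δ.dpow (m + 1) x) = δ.dpow m x * D x) :
    ∃ θ : (Ω[A⁄R] ⧸ N) →ₗ[A] A, ∀ a, θ (DQ R N a) = D a := by
  refine ⟨N.liftQ D.liftKaehlerDifferential ?_, fun a => ?_⟩
  · rw [hN, Submodule.span_le]
    rintro _ ⟨x, hx, m, rfl⟩
    rw [SetLike.mem_coe, LinearMap.mem_ker, map_sub, map_smul,
      Derivation.liftKaehlerDifferential_comp_D, Derivation.liftKaehlerDifferential_comp_D, hD x hx,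
      smul_eq_mul, sub_self]
  · rw [DQ_apply, Submodule.mkQ_apply, Submodule.liftQ_apply,
      Derivation.liftKaehlerDifferential_comp_D]

end Receptacle

section Pull

variable {R : Type v} [CommRing R] {B P : Type u} [CommRing B] [CommRing P] [Algebra R B]
  [Algebra R P] [Algebra B P] [IsScalarTower R B P]
  {NB : Submodule B (Ω[B⁄R])} {NP : Submodule P (Ω[P⁄R])}
  (h : ∀ ω ∈ NB, KaehlerDifferential.map R R B P ω ∈ NP)

/-- the map of receptacles -/
noncomputable def s1 : (Ω[B⁄R] ⧸ NB) →ₗ[B] (Ω[P⁄R] ⧸ NP) :=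
  NB.liftQ ((NP.mkQ.restrictScalars B) ∘ₗ KaehlerDifferential.map R R B P) (fun ω hω => by
    rw [LinearMap.mem_ker, LinearMap.comp_apply]
    change NP.mkQ _ = 0
    rw [Submodule.mkQ_apply, Submodule.Quotient.mk_eq_zero]
    exact h ω hω)

theorem s1_D (b : B) : s1 h (DQ R NB b) = DQ R NP (algebraMap B P b) := by
  unfold s1
  rw [DQ_apply, Submodule.mkQ_apply, Submodule.liftQ_apply, LinearMap.comp_apply,
    KaehlerDifferential.map_D]
  rfl

variable (B NP) in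
/-- the universal alternating map, over the smaller ring -/
noncomputable def altB (p : ℕ) : (Ω[P⁄R] ⧸ NP) [⋀^Fin p]→ₗ[B] ↥(⋀[P]^p (Ω[P⁄R] ⧸ NP)) where
  toMultilinearMap := (exteriorPower.ιMulti P p (M := (Ω[P⁄R] ⧸ NP))).toMultilinearMap.restrictScalars B
  map_eq_zero_of_eq' := (exteriorPower.ιMulti P p (M := (Ω[P⁄R] ⧸ NP))).map_eq_zero_of_eq'

/-- the map of forms -/
noncomputable def sB (p : ℕ) : ↥(⋀[B]^p (Ω[B⁄R] ⧸ NB)) →ₗ[B] ↥(⋀[P]^p (Ω[P⁄R] ⧸ NP)) :=
  exteriorPower.alternatingMapLinearEquiv ((altB B NP p).compLinearMap (s1 h))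

theorem sB_gen (p : ℕ) (b₀ : B) (b : Fin p → B) :
    sB h p (gen (DQ R NB) p b₀ b) = gen (DQ R NP) p (algebraMap B P b₀) (fun j => algebraMap B P (b j)) := by
  unfold sB gen
  rw [map_smul, exteriorPower.alternatingMapLinearEquiv_apply_ιMulti,
    AlternatingMap.compLinearMap_apply, algebraMap_smul]
  congr 1
  change exteriorPower.ιMulti P p _ = _
  congr 1
  ext j
  exact s1_D h (b j)

theorem sB_mem_of_F (p : ℕ) {ω : ↥(⋀[P]^p (Ω[P⁄R] ⧸ NP))} {S : Subring P}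
    (hS : ∀ c ∈ S, ∃ b : B, algebraMap B P b = c) (hω : ω ∈ F (DQ R NP) S p) :
    ∃ c : ↥(⋀[B]^p (Ω[B⁄R] ⧸ NB)), sB h p c = ω := by
  induction hω using AddSubgroup.closure_induction with
  | mem ω hω =>
    obtain ⟨b₀, b, h₀, hb, rfl⟩ := hω
    obtain ⟨c₀, rfl⟩ := hS b₀ h₀
    choose c hc using fun j => hS (b j) (hb j)
    refine ⟨gen (DQ R NB) p c₀ c, ?_⟩
    rw [sB_gen]
    congr 1
    ext j
    exact hc j
  | zero => exact ⟨0, map_zero _⟩
  | add x y _ _ hx hy =>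
    obtain ⟨a, rfl⟩ := hx
    obtain ⟨b, rfl⟩ := hy
    exact ⟨a + b, map_add _ _ _⟩
  | neg x _ hx =>
    obtain ⟨a, rfl⟩ := hx
    exact ⟨-a, map_neg _ _⟩

theorem add_ind {C : ∀ p : ℕ, ↥(⋀[B]^p (Ω[B⁄R] ⧸ NB)) → Prop}
    (hg : ∀ p b₀ b, C p (gen (DQ R NB) p b₀ b)) (h0 : ∀ p, C p 0)
    (ha : ∀ p a b, C p a → C p b → C p (a + b)) (hn : ∀ p a, C p a → C p (-a)) (p : ℕ)
    (ω : ↥(⋀[B]^p (Ω[B⁄R] ⧸ NB))) : C p ω := by
  have hω : ω ∈ F (DQ R NB) ⊤ p := by rw [F_top (DQ R NB) (span_DQ R NB)]; trivial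
  induction hω using AddSubgroup.closure_induction with
  | mem ω hω =>
    obtain ⟨b₀, b, _, _, rfl⟩ := hω
    exact hg p b₀ b
  | zero => exact h0 p
  | add x y _ _ hx hy => exact ha p x y hx hy
  | neg x _ hx => exact hn p x hx

theorem d_sB {dP : ∀ p : ℕ, ↥(⋀[P]^p (Ω[P⁄R] ⧸ NP)) →ₗ[R] ↥(⋀[P]^(p + 1) (Ω[P⁄R] ⧸ NP))}
    (hdP : IsRule (DQ R NP) dP)
    {dB : ∀ p : ℕ, ↥(⋀[B]^p (Ω[B⁄R] ⧸ NB)) →ₗ[R] ↥(⋀[B]^(p + 1) (Ω[B⁄R] ⧸ NB))}
    (hdB : IsRule (DQ R NB) dB) (p : ℕ) (ω : ↥(⋀[B]^p (Ω[B⁄R] ⧸ NB))) :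
    dP p (sB h p ω) = sB h (p + 1) (dB p ω) := by
  refine add_ind (C := fun p ω => dP p (sB h p ω) = sB h (p + 1) (dB p ω)) ?_ ?_ ?_ ?_ p ω
  · intro p b₀ b
    rw [sB_gen, d_gen hdP, d_gen hdB, sB_gen, map_one]
    congr 1
    ext j
    refine Fin.cases ?_ (fun j => ?_) j
    · rfl
    · rfl
  · intro p; rw [map_zero, map_zero, map_zero, map_zero]
  · intro p a b ha hb; rw [map_add, map_add, ha, hb, map_add, map_add]
  · intro p a ha; rw [map_neg, map_neg, ha, map_neg, map_neg]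

theorem psi_sB (z : P →+* B) (hz : ∀ b : B, z (algebraMap B P b) = b)
    {ψ : ∀ p : ℕ, ↥(⋀[P]^p (Ω[P⁄R] ⧸ NP)) →+ ↥(⋀[B]^p (Ω[B⁄R] ⧸ NB))}
    (hψ : IsCxMap (DQ R NP) (DQ R NB) z ψ) (p : ℕ) (ω : ↥(⋀[B]^p (Ω[B⁄R] ⧸ NB))) :
    ψ p (sB h p ω) = ω := by
  refine add_ind (C := fun p ω => ψ p (sB h p ω) = ω) ?_ ?_ ?_ ?_ p ω
  · intro p b₀ b
    rw [sB_gen, hψ, hz]
    congr 1
    ext j
    exact hz (b j)
  · intro p; rw [map_zero, map_zero]
  · intro p a b ha hb; rw [map_add, map_add, ha, hb]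
  · intro p a ha; rw [map_neg, map_neg, ha]

end Pull

section Main

variable {R : Type v} [CommRing R] {B P : Type u} [CommRing B] [CommRing P] [Algebra R B]
  [Algebra R P] [Algebra B P] [IsScalarTower R B P] {J : Ideal B} {δ : DividedPowers J} {n : ℕ}
  {JP : Ideal P} {δP : DividedPowers JP} {X : Fin n → P} (hX : ∀ i, X i ∈ JP)
    (hmor : δ.IsDPMorphism δP (algebraMap B P))
    (huniv : ∀ (C : Type u) [CommRing C] [Algebra B C] (K : Ideal C) (ε : DividedPowers K),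
      δ.IsDPMorphism ε (algebraMap B C) → ∀ k : Fin n → C, (∀ i, k i ∈ K) →
        ∃! φ : P →ₐ[B] C, (∀ i, φ (X i) = k i) ∧ δP.IsDPMorphism ε φ.toRingHom)

variable (B δP X) in
/-- the subring generated by the divided powers of the first `k` variables -/
def Sk (k : ℕ) : Subalgebra B P :=
  Algebra.adjoin B {y : P | ∃ (j : Fin n) (m : ℕ), (j : ℕ) < k ∧ y = δP.dpow m (X j)}

theorem Sk_zero {c : P} (hc : c ∈ Sk B δP X 0) : ∃ b : B, algebraMap B P b = c := by
  have : {y : P | ∃ (j : Fin n) (m : ℕ), (j : ℕ) < 0 ∧ y = δP.dpow m (X j)} = ∅ := by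
    ext y
    simp
  rw [Sk, this, Algebra.adjoin_empty, Algebra.mem_bot] at hc
  exact hc

include hX hmor huniv in
theorem Sk_top : Sk B δP X n = ⊤ := by
  rw [eq_top_iff, ← K977.Univ.adjoin_eq_top hX hmor huniv]
  refine Algebra.adjoin_mono ?_
  rintro _ ⟨p, rfl⟩
  exact ⟨p.1, p.2, p.1.2, rfl⟩

include hX in
theorem Sk_succ (i : Fin n) {b : P} (hb : b ∈ Sk B δP X ((i : ℕ) + 1)) :
    b ∈ AddSubgroup.closure {y : P | ∃ (m : ℕ) (c : P), c ∈ (Sk B δP X i).toSubring ∧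
      y = δP.dpow m (X i) * c} := by
  have hmem : ∀ (m : ℕ) (c : P), c ∈ Sk B δP X i → δP.dpow m (X i) * c ∈
      AddSubgroup.closure {y : P | ∃ (m : ℕ) (c : P), c ∈ (Sk B δP X i).toSubring ∧
        y = δP.dpow m (X i) * c} := fun m c hc => AddSubgroup.subset_closure ⟨m, c, hc, rfl⟩
  have hmem' : ∀ c : P, c ∈ Sk B δP X i → c ∈
      AddSubgroup.closure {y : P | ∃ (m : ℕ) (c : P), c ∈ (Sk B δP X i).toSubring ∧
        y = δP.dpow m (X i) * c} := fun c hc => by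
    have := hmem 0 c hc
    rwa [δP.dpow_zero (hX i), one_mul] at this
  induction hb using Algebra.adjoin_induction with
  | mem y hy =>
    obtain ⟨j, m, hj, rfl⟩ := hy
    rcases Nat.lt_or_ge (j : ℕ) (i : ℕ) with h1 | h1
    · exact hmem' _ (Algebra.subset_adjoin ⟨j, m, h1, rfl⟩)
    · obtain rfl : j = i := Fin.ext (by omega)
      have := hmem m 1 (one_mem _)
      rwa [mul_one] at this
  | algebraMap r => exact hmem' _ (Subalgebra.algebraMap_mem _ r)
  | add x y _ _ hx hy => exact AddSubgroup.add_mem _ hx hy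
  | mul x y hx' hy' hx hy =>
    clear hx' hy'
    induction hx using AddSubgroup.closure_induction with
    | mem x hx =>
      obtain ⟨m, c, hc, rfl⟩ := hx
      induction hy using AddSubgroup.closure_induction with
      | mem y hy =>
        obtain ⟨m', c', hc', rfl⟩ := hy
        have : δP.dpow m (X i) * c * (δP.dpow m' (X i) * c') =
            (m + m').choose m • (δP.dpow (m + m') (X i) * (c * c')) := by
          rw [nsmul_eq_mul, ← mul_assoc ((m + m').choose m : P), ← δP.mul_dpow (hX i)]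
          ring
        rw [this]
        exact AddSubgroup.nsmul_mem _ (hmem _ _ (mul_mem hc hc')) _
      | zero => rw [mul_zero]; exact AddSubgroup.zero_mem _
      | add a b _ _ ha hb => rw [mul_add]; exact AddSubgroup.add_mem _ ha hb
      | neg a _ ha => rw [mul_neg]; exact AddSubgroup.neg_mem _ ha
    | zero => rw [zero_mul]; exact AddSubgroup.zero_mem _
    | add a b _ _ ha hb => rw [add_mul]; exact AddSubgroup.add_mem _ ha hb
    | neg a _ ha => rw [neg_mul]; exact AddSubgroup.neg_mem _ ha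

variable {NP : Submodule P (Ω[P⁄R])}
  (hNP : NP = Submodule.span P {ω : Ω[P⁄R] | ∃ x ∈ JP, ∃ m : ℕ,
      ω = KaehlerDifferential.D R P (δP.dpow (m + 1) x) - δP.dpow m x • KaehlerDifferential.D R P x})

include hX hmor huniv hNP in
/-- the data of one elimination step -/
theorem exists_theta (i : Fin n) : ∃ θ : (Ω[P⁄R] ⧸ NP) →ₗ[P] P,
    (∀ c ∈ (Sk B δP X i).toSubring, θ (DQ R NP c) = 0) ∧ θ (DQ R NP (X i)) = 1 := by
  obtain ⟨D, hD1, hD2⟩ := K977.Univ.exists_partial hX hmor huniv i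
  obtain ⟨θ, hθ⟩ := exists_functional hNP (D.restrictScalars R) hD2
  refine ⟨θ, fun c hc => ?_, ?_⟩
  · rw [hθ]
    change D c = 0
    have hc' : c ∈ Sk B δP X i := hc
    induction hc' using Algebra.adjoin_induction with
    | mem y hy =>
      obtain ⟨j, m, hj, rfl⟩ := hy
      rcases m with _ | m
      · rw [δP.dpow_zero (hX j), Derivation.map_one_eq_zero]
      · rw [hD2 _ (hX j), hD1, if_neg (by rintro rfl; omega), mul_zero]
    | algebraMap r => exact Derivation.map_algebraMap _ _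
    | add x y hx' hy' hx hy => rw [map_add, hx hx', hy hy', add_zero]
    | mul x y hx' hy' hx hy => rw [Derivation.leibniz, hx hx', hy hy', smul_zero, smul_zero, add_zero]
  · rw [hθ]
    change D (X i) = 1
    rw [hD1, if_pos rfl]

variable {dP : ∀ p : ℕ, ↥(⋀[P]^p (Ω[P⁄R] ⧸ NP)) →ₗ[R] ↥(⋀[P]^(p + 1) (Ω[P⁄R] ⧸ NP))}
    (hdP : IsDiff (DQ R NP) dP)

include hX hmor huniv hNP hdP in
theorem reduce_succ (p k : ℕ) (hk : k ≤ n) : ∀ (ω : ↥(⋀[P]^(p + 1) (Ω[P⁄R] ⧸ NP))),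
    ω ∈ F (DQ R NP) (Sk B δP X k).toSubring (p + 1) → dP (p + 1) ω = 0 →
    ∃ η : ↥(⋀[P]^p (Ω[P⁄R] ⧸ NP)), ω - dP p η ∈ F (DQ R NP) (Sk B δP X 0).toSubring (p + 1) := by
  induction k with
  | zero => exact fun ω hω _ => ⟨0, by rwa [map_zero, sub_zero]⟩
  | succ k ih =>
    intro ω hω hc
    let i : Fin n := ⟨k, by omega⟩
    obtain ⟨θ, hθ1, hθ2⟩ := exists_theta hX hmor huniv hNP i
    have hx1 : δP.dpow 1 (X i) = X i := δP.dpow_one (hX i)
    obtain ⟨η, hη⟩ := step_succ (Sk B δP X k).toSubring (Sk B δP X (k + 1)).toSubring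
      (fun m => δP.dpow m (X i)) (δP.dpow_zero (hX i)) (fun a b => δP.mul_dpow (hX i))
      (fun m => by rw [hx1]; exact DQ_dpow hNP (hX i) m)
      (fun b hb => Sk_succ hX i hb) (span_DQ R NP) hdP.1 hdP.2 θ hθ1 (by rw [hx1]; exact hθ2) hω hc
    have hdd : dP (p + 1) (dP p η) = 0 := LinearMap.congr_fun (hdP.2 p) η
    obtain ⟨η', hη'⟩ := ih (by omega) (ω - dP p η) hη (by rw [map_sub, hc, hdd, sub_zero])
    refine ⟨η + η', ?_⟩
    rw [map_add, ← sub_sub]
    exact hη'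

include hX hmor huniv hNP hdP in
theorem reduce_zero (k : ℕ) (hk : k ≤ n) : ∀ (ω : ↥(⋀[P]^0 (Ω[P⁄R] ⧸ NP))),
    ω ∈ F (DQ R NP) (Sk B δP X k).toSubring 0 → dP 0 ω = 0 →
      ω ∈ F (DQ R NP) (Sk B δP X 0).toSubring 0 := by
  induction k with
  | zero => exact fun ω hω _ => hω
  | succ k ih =>
    intro ω hω hc
    let i : Fin n := ⟨k, by omega⟩
    obtain ⟨θ, hθ1, hθ2⟩ := exists_theta hX hmor huniv hNP i
    have hx1 : δP.dpow 1 (X i) = X i := δP.dpow_one (hX i)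
    exact ih (by omega) ω (step_zero (Sk B δP X k).toSubring (Sk B δP X (k + 1)).toSubring
      (fun m => δP.dpow m (X i)) (δP.dpow_zero (hX i)) (fun a b => δP.mul_dpow (hX i))
      (fun m => by rw [hx1]; exact DQ_dpow hNP (hX i) m)
      (fun b hb => Sk_succ hX i hb) (span_DQ R NP) hdP.1 θ hθ1 (by rw [hx1]; exact hθ2) hω hc) hc

variable {NB : Submodule B (Ω[B⁄R])}
  (hNB : NB = Submodule.span B {ω : Ω[B⁄R] | ∃ x ∈ J, ∃ m : ℕ,
      ω = KaehlerDifferential.D R B (δ.dpow (m + 1) x) - δ.dpow m x • KaehlerDifferential.D R B x})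

include hmor hNP hNB in
theorem map_NB : ∀ ω ∈ NB, KaehlerDifferential.map R R B P ω ∈ NP := by
  intro ω hω
  rw [hNB] at hω
  induction hω using Submodule.span_induction with
  | mem ω hω =>
    obtain ⟨x, hx, m, rfl⟩ := hω
    have hx' : algebraMap B P x ∈ JP := hmor.ideal_comp (Ideal.mem_map_of_mem _ hx)
    rw [map_sub, map_smul, KaehlerDifferential.map_D, KaehlerDifferential.map_D, hNP,
      ← hmor.dpow_comp x hx, ← algebraMap_smul P (δ.dpow m x), ← hmor.dpow_comp x hx]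
    exact Submodule.subset_span ⟨_, hx', m, rfl⟩
  | zero => rw [map_zero]; exact zero_mem _
  | add x y _ _ hx hy => rw [map_add]; exact add_mem hx hy
  | smul a x _ hx => rw [map_smul, ← algebraMap_smul P a]; exact NP.smul_mem _ hx

end Main

end K977.DeRhamMain
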