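import Mathlib.RingTheory.DividedPowers.Basic
import Mathlib.RingTheory.DividedPowers.DPMorphism
import Mathlib.Algebra.TrivSqZeroExt.Basic
import Mathlib.Tactic.LinearCombination
import Mathlib.Tactic.Ring

/-!
Divided powers on the dual numbers `A[ε]` over a divided power ring `(A, J, δ)`: the ideal
`J ⊕ A ε` carries the divided powers `(x, y) ↦ (δ_m x, δ_{m-1}(x) y)`.
-/

set_option autoImplicit false

namespace K977.Dual

open TrivSqZeroExt

universe u

variable {A : Type u} [CommRing A] {J : Ideal A} (δ : DividedPowers J)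

/-- the shifted divided powers -/
def sh (m : ℕ) (x : A) : A := if m = 0 then 0 else δ.dpow (m - 1) x

theorem sh_zero (x : A) : sh δ 0 x = 0 := if_pos rfl

theorem sh_succ (m : ℕ) (x : A) : sh δ (m + 1) x = δ.dpow m x := by
  unfold sh
  rw [if_neg (Nat.succ_ne_zero m), Nat.add_sub_cancel]

theorem sh_add_left (m : ℕ) {x y : A} (hx : x ∈ J) (hy : y ∈ J) :
    ∑ k ∈ Finset.antidiagonal m, sh δ k.1 x * δ.dpow k.2 y = sh δ m (x + y) := by
  rcases m with _ | m
  · simp [sh_zero]
  · rw [Finset.Nat.antidiagonal_succ, Finset.sum_cons, sh_zero, zero_mul, zero_add,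
      Finset.sum_map, sh_succ, δ.dpow_add hx hy]
    refine Finset.sum_congr rfl fun k _ => ?_
    simp [sh_succ]

theorem sh_add_right (m : ℕ) {x y : A} (hx : x ∈ J) (hy : y ∈ J) :
    ∑ k ∈ Finset.antidiagonal m, δ.dpow k.1 x * sh δ k.2 y = sh δ m (x + y) := by
  rw [add_comm x y, ← sh_add_left δ m hy hx, ← Finset.Nat.sum_antidiagonal_swap]
  refine Finset.sum_congr rfl fun k _ => ?_
  simp [mul_comm]

theorem mul_sh (m : ℕ) {x : A} (hx : x ∈ J) : x * sh δ m x = (m : A) * δ.dpow m x := by
  rcases m with _ | m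
  · simp [sh_zero]
  · rw [sh_succ]
    have := δ.mul_dpow (m := 1) (n := m) hx
    rw [δ.dpow_one hx, add_comm 1 m, Nat.choose_one_right] at this
    exact this

theorem sh_mul (m : ℕ) (a : A) {x : A} (hx : x ∈ J) : a * sh δ m (a * x) = a ^ m * sh δ m x := by
  rcases m with _ | m
  · simp [sh_zero]
  · rw [sh_succ, sh_succ, δ.dpow_mul hx]
    ring

theorem sh_mul' (m : ℕ) (a : A) {x : A} (hx : x ∈ J) :
    x * sh δ m (a * x) = (m : A) * a ^ (m - 1) * δ.dpow m x := by
  rcases m with _ | m
  · simp [sh_zero]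
  · rw [sh_succ, δ.dpow_mul hx, Nat.add_sub_cancel]
    have := mul_sh δ (m + 1) hx
    rw [sh_succ] at this
    linear_combination a ^ m * this

theorem mul_sh_add (m n : ℕ) {x : A} (hx : x ∈ J) :
    δ.dpow m x * sh δ n x + sh δ m x * δ.dpow n x = ((m + n).choose m : A) * sh δ (m + n) x := by
  rcases m with _ | m
  · rw [sh_zero, δ.dpow_zero hx, zero_add]
    simp
  · rcases n with _ | n
    · rw [sh_zero, δ.dpow_zero hx, add_zero]
      simp
    · rw [sh_succ, sh_succ, δ.mul_dpow hx, δ.mul_dpow hx]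
      have h1 : m + 1 + (n + 1) = (m + 1 + n) + 1 := by omega
      have h2 : m + (n + 1) = m + 1 + n := by omega
      rw [h1, sh_succ, h2, ← add_mul]
      congr 1
      rw [Nat.choose_succ_succ' (m + 1 + n) m]
      push_cast
      ring

theorem sh_comp (m n : ℕ) (hn : n ≠ 0) {x : A} (hx : x ∈ J) :
    sh δ m (δ.dpow n x) * sh δ n x = (Nat.uniformBell m n : A) * sh δ (m * n) x := by
  rcases m with _ | m
  · rw [sh_zero, zero_mul, zero_mul, sh_zero, mul_zero]
  · obtain ⟨n, rfl⟩ := Nat.exists_eq_succ_of_ne_zero hn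
    have h1 : (m + 1) * n.succ = m * (n + 1) + n + 1 := by
      rw [Nat.succ_eq_add_one]; ring
    rw [h1, sh_succ, sh_succ, sh_succ, δ.dpow_comp hn hx, mul_assoc, δ.mul_dpow hx,
      Nat.uniformBell_succ_left]
    have h2 : m * n.succ + n.succ - 1 = m * (n + 1) + n := by
      rw [Nat.succ_eq_add_one]; omega
    have h3 : n.succ - 1 = n := rfl
    rw [h2, h3]
    have h4 : (m * n.succ + n).choose (m * n.succ) = (m * (n + 1) + n).choose n := by
      rw [Nat.choose_symm_add]
    rw [h4]
    push_cast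
    ring

variable (J) in
/-- the ideal `J ⊕ A ε` -/
def K : Ideal (TrivSqZeroExt A A) := Ideal.comap (fstHom A A A) J

theorem mem_K {z : TrivSqZeroExt A A} : z ∈ K J ↔ z.fst ∈ J := Iff.rfl

open Classical in
/-- Divided powers on the dual numbers. -/
noncomputable def dual : DividedPowers (K J) where
  dpow m z := if z.fst ∈ J then (inl (δ.dpow m z.fst) + inr (sh δ m z.fst * z.snd)) else 0
  dpow_null {m z} hz := if_neg hz
  dpow_zero {z} hz := by
    rw [if_pos (mem_K.mp hz)]
    ext
    · simp [δ.dpow_zero (mem_K.mp hz)]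
    · simp [sh_zero]
  dpow_one {z} hz := by
    rw [if_pos (mem_K.mp hz)]
    ext
    · simp [δ.dpow_one (mem_K.mp hz)]
    · have : sh δ 1 z.fst = 1 := by
        rw [show (1 : ℕ) = 0 + 1 from rfl, sh_succ, δ.dpow_zero (mem_K.mp hz)]
      simp [this]
  dpow_mem {m z} hm hz := by
    rw [if_pos (mem_K.mp hz), mem_K]
    simpa using δ.dpow_mem hm (mem_K.mp hz)
  dpow_add {m z w} hz hw := by
    have hz' := mem_K.mp hz
    have hw' := mem_K.mp hw
    rw [if_pos (by rw [fst_add]; exact J.add_mem hz' hw')]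
    simp only [if_pos hz', if_pos hw']
    ext
    · simp only [fst_add, fst_inl, fst_inr, add_zero]
      rw [fst_sum, δ.dpow_add hz' hw']
      refine Finset.sum_congr rfl fun k _ => ?_
      simp
    · simp only [fst_add, snd_add, snd_inl, snd_inr, zero_add]
      rw [snd_sum]
      have : ∀ k : ℕ × ℕ, ((inl (δ.dpow k.1 z.fst) + inr (sh δ k.1 z.fst * z.snd)) *
          (inl (δ.dpow k.2 w.fst) + inr (sh δ k.2 w.fst * w.snd)) : TrivSqZeroExt A A).snd =
          (δ.dpow k.1 z.fst * sh δ k.2 w.fst) * w.snd + (sh δ k.1 z.fst * δ.dpow k.2 w.fst) * z.snd := by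
        intro k
        simp
        ring
      simp only [this]
      rw [Finset.sum_add_distrib, ← Finset.sum_mul, ← Finset.sum_mul, sh_add_left δ m hz' hw',
        sh_add_right δ m hz' hw']
      ring
  dpow_mul {m a z} hz := by
    have hz' := mem_K.mp hz
    rw [if_pos (by rw [fst_mul]; exact J.mul_mem_left _ hz'), if_pos hz']
    ext
    · simp [δ.dpow_mul hz']
    · simp only [fst_mul, snd_add, snd_inl, snd_inr, zero_add, snd_mul, smul_eq_mul,
        fst_add, fst_inl, fst_inr, add_zero, fst_pow, snd_pow, op_smul_eq_smul]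
      have h1 := sh_mul δ m a.fst hz'
      have h2 := sh_mul' δ m a.fst hz'
      rw [nsmul_eq_mul, Nat.pred_eq_sub_one]
      linear_combination z.snd * h1 + a.snd * h2
  mul_dpow {m n z} hz := by
    have hz' := mem_K.mp hz
    simp only [if_pos hz']
    ext
    · simp only [fst_mul, fst_add, fst_inl, fst_inr, add_zero, fst_natCast]
      rw [δ.mul_dpow hz']
    · simp only [snd_mul, fst_add, snd_add, fst_inl, fst_inr, snd_inl, snd_inr, zero_add, add_zero,
        smul_eq_mul, op_smul_eq_smul, fst_natCast, snd_natCast, smul_zero]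
      have := mul_sh_add δ m n hz'
      linear_combination z.snd * this
  dpow_comp {m n z} hn hz := by
    have hz' := mem_K.mp hz
    simp only [if_pos hz']
    rw [if_pos (by simpa using δ.dpow_mem hn hz')]
    ext
    · simp only [fst_mul, fst_add, fst_inl, fst_inr, add_zero, fst_natCast]
      rw [δ.dpow_comp hn hz']
    · simp only [snd_mul, fst_add, snd_add, fst_inl, fst_inr, snd_inl, snd_inr, zero_add, add_zero,
        smul_eq_mul, op_smul_eq_smul, fst_natCast, snd_natCast, smul_zero]
      have := sh_comp δ m n hn hz'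
      linear_combination z.snd * this

theorem dual_fst (m : ℕ) {z : TrivSqZeroExt A A} (hz : z.fst ∈ J) :
    ((dual δ).dpow m z).fst = δ.dpow m z.fst := by
  classical
  unfold dual
  simp [hz]

theorem dual_snd (m : ℕ) {z : TrivSqZeroExt A A} (hz : z.fst ∈ J) :
    ((dual δ).dpow m z).snd = sh δ m z.fst * z.snd := by
  classical
  unfold dual
  simp [hz]

end K977.Dual
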