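import Mathlib.RingTheory.DividedPowers.Basic
import Mathlib.RingTheory.DividedPowers.DPMorphism
import Mathlib.LinearAlgebra.Basis.Defs
import Mathlib.LinearAlgebra.Basis.Basic
import Mathlib.Algebra.BigOperators.Finsupp.Basic
import Mathlib.RingTheory.Ideal.Span
import Mathlib.Algebra.Algebra.Hom

set_option autoImplicit false

namespace K977.Lift

universe u v w z

/-- A system of symbols `y l n` behaving like divided powers of `y l 1`. -/
structure DPSys {S : Type*} [CommRing S] {Λ : Type*} (y : Λ → ℕ → S) : Prop where
  zero : ∀ l, y l 0 = 1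
  mul : ∀ l n m, y l n * y l m = ((n + m).choose n : S) * y l (n + m)

/-- the monomial with exponent `e` -/
noncomputable def mon {S : Type*} [CommRing S] {Λ : Type*} (y : Λ → ℕ → S) (e : Λ →₀ ℕ) : S :=
  e.prod (fun l k => y l k)

/-- multi-index binomial coefficient -/
noncomputable def bin {Λ : Type*} (e f : Λ →₀ ℕ) : ℕ :=
  ∏ l ∈ (e + f).support, (e l + f l).choose (e l)

section

variable {S : Type*} [CommRing S] {Λ : Type*} {y : Λ → ℕ → S}

theorem mon_eq (hy : DPSys y) {e : Λ →₀ ℕ} {s : Finset Λ} (hs : e.support ⊆ s) :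
    mon y e = ∏ l ∈ s, y l (e l) :=
  Finsupp.prod_of_support_subset e hs _ (fun l _ => hy.zero l)

theorem support_le_add_left (e f : Λ →₀ ℕ) : e.support ⊆ (e + f).support := by
  intro l hl
  rw [Finsupp.mem_support_iff] at hl ⊢
  rw [Finsupp.add_apply]
  omega

theorem support_le_add_right (e f : Λ →₀ ℕ) : f.support ⊆ (e + f).support := by
  intro l hl
  rw [Finsupp.mem_support_iff] at hl ⊢
  rw [Finsupp.add_apply]
  omega

theorem mon_mul (hy : DPSys y) (e f : Λ →₀ ℕ) :
    mon y e * mon y f = (bin e f : S) * mon y (e + f) := by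
  rw [mon_eq hy (support_le_add_left e f), mon_eq hy (support_le_add_right e f),
    mon_eq hy (subset_refl (e + f).support), ← Finset.prod_mul_distrib, bin, Nat.cast_prod,
    ← Finset.prod_mul_distrib]
  refine Finset.prod_congr rfl fun l _ => ?_
  rw [hy.mul, Finsupp.add_apply]

theorem mon_zero : mon y 0 = 1 := Finsupp.prod_zero_index

theorem mon_single (hy : DPSys y) (l : Λ) (n : ℕ) : mon y (Finsupp.single l n) = y l n :=
  Finsupp.prod_single_index (hy.zero l)

end

section

variable {R : Type*} [CommRing R] {Λ : Type*} {P : Type*} [CommRing P] [Algebra R P]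
    {x : Λ → ℕ → P} (hx : DPSys x) (b : Module.Basis (Λ →₀ ℕ) R P)
    (hb : ∀ e : Λ →₀ ℕ, b e = mon x e)
    {S : Type*} [CommRing S] [Algebra R S] {y : Λ → ℕ → S} (hy : DPSys y)

/-- The universal property of the divided power polynomial algebra in terms of symbols. -/
noncomputable def lift : P →ₐ[R] S :=
  AlgHom.ofLinearMap (b.constr R (fun e => mon y e))
    (by
      have : (1 : P) = b 0 := by rw [hb, mon_zero]
      rw [this, Module.Basis.constr_basis, mon_zero])
    (by
      have key : ∀ e f, b.constr R (fun e => mon y e) (b e * b f) =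
          b.constr R (fun e => mon y e) (b e) * b.constr R (fun e => mon y e) (b f) := by
        intro e f
        rw [Module.Basis.constr_basis, Module.Basis.constr_basis, mon_mul hy, hb e, hb f,
          mon_mul hx, ← hb, ← nsmul_eq_mul, map_nsmul, Module.Basis.constr_basis, nsmul_eq_mul]
      let φ := b.constr R (fun e => mon y e)
      have h2 : (LinearMap.mul R S).compl₁₂ φ φ = (LinearMap.mul R P).compr₂ φ := by
        refine b.ext fun e => b.ext fun f => ?_
        simp only [LinearMap.compl₁₂_apply, LinearMap.mul_apply', LinearMap.compr₂_apply]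
        exact (key e f).symm
      intro p q
      have := LinearMap.congr_fun (LinearMap.congr_fun h2 p) q
      simp only [LinearMap.compl₁₂_apply, LinearMap.mul_apply', LinearMap.compr₂_apply] at this
      exact this.symm)

theorem lift_basis (e : Λ →₀ ℕ) : lift hx b hb hy (b e) = mon y e :=
  Module.Basis.constr_basis b R (fun e => mon y e) e

theorem lift_x (l : Λ) (n : ℕ) : lift hx b hb hy (x l n) = y l n := by
  have h1 : x l n = b (Finsupp.single l n) := by rw [hb, mon_single hx]
  rw [h1, lift_basis, mon_single hy]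

include hb in
theorem algHom_ext {φ ψ : P →ₐ[R] S} (h : ∀ l n, φ (x l n) = ψ (x l n)) : φ = ψ := by
  have : φ.toLinearMap = ψ.toLinearMap := by
    refine b.ext fun e => ?_
    change φ (b e) = ψ (b e)
    rw [hb, mon, Finsupp.prod, map_prod, map_prod]
    exact Finset.prod_congr rfl fun l _ => h l _
  ext p
  exact LinearMap.congr_fun this p

/-- the augmentation ideal -/
def aug (x : Λ → ℕ → P) : Ideal P := Ideal.span {y : P | ∃ (l : Λ) (n : ℕ), 1 ≤ n ∧ y = x l n}

omit [Algebra R P] in
theorem x_mem_aug (l : Λ) {n : ℕ} (hn : n ≠ 0) : x l n ∈ aug x :=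
  Ideal.subset_span ⟨l, n, by omega, rfl⟩

include hx in
omit [Algebra R P] in
theorem mon_mem_aug {e : Λ →₀ ℕ} (he : e ≠ 0) : mon x e ∈ aug x := by
  classical
  obtain ⟨l, hl⟩ := Finsupp.support_nonempty_iff.mpr he
  rw [mon_eq hx (subset_refl _), ← Finset.mul_prod_erase _ _ hl]
  exact Ideal.mul_mem_right _ _ (x_mem_aug l (Finsupp.mem_support_iff.mp hl))

include hx hb in
theorem mem_aug_iff (p : P) : p ∈ aug x ↔ b.repr p 0 = 0 := by
  constructor
  · intro hp
    let z : Λ → ℕ → R := fun _ n => if n = 0 then 1 else 0
    have hz : DPSys z := by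
      refine ⟨fun l => by simp [z], fun l n m => ?_⟩
      rcases Nat.eq_zero_or_pos n with rfl | hn
      · simp [z]
      · have h1 : n ≠ 0 := by omega
        have h2 : n + m ≠ 0 := by omega
        simp [z, h1]
    have h1 : ∀ q : P, lift hx b hb hz q = b.repr q 0 := by
      intro q
      have : (lift hx b hb hz).toLinearMap = b.coord 0 := by
        refine b.ext fun e => ?_
        change lift hx b hb hz (b e) = b.repr (b e) 0
        rw [lift_basis, Module.Basis.repr_self]
        by_cases he : e = 0
        · subst he; rw [mon_zero, Finsupp.single_eq_same]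
        · rw [Finsupp.single_eq_of_ne (Ne.symm he)]
          obtain ⟨l, hl⟩ := Finsupp.support_nonempty_iff.mpr he
          rw [mon_eq hz (subset_refl _)]
          apply Finset.prod_eq_zero hl
          simp [z, Finsupp.mem_support_iff.mp hl]
      exact LinearMap.congr_fun this q
    rw [← h1]
    have h2 : aug x ≤ RingHom.ker (lift hx b hb hz).toRingHom := by
      rw [aug, Ideal.span_le]
      rintro _ ⟨l, n, hn, rfl⟩
      change lift hx b hb hz (x l n) = 0
      rw [lift_x]
      have : n ≠ 0 := by omega
      simp [z, this]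
    exact h2 hp
  · intro hp
    rw [← b.linearCombination_repr p, Finsupp.linearCombination_apply]
    refine sum_mem (fun e he => ?_)
    by_cases h0 : e = 0
    · subst h0; exact absurd hp (Finsupp.mem_support_iff.mp he)
    · change b.repr p e • b e ∈ _
      rw [Algebra.smul_def, hb]
      exact Ideal.mul_mem_left _ _ (mon_mem_aug hx h0)

end

/-- The symbols attached to a family of elements in a divided power ideal. -/
theorem dpSys_of_dividedPowers {S : Type*} [CommRing S] {J : Ideal S} (δ : DividedPowers J)
    {Λ : Type*} (s : Λ → S) (hs : ∀ l, s l ∈ J) : DPSys (fun l n => δ.dpow n (s l)) :=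
  ⟨fun l => δ.dpow_zero (hs l), fun l _ _ => δ.mul_dpow (hs l)⟩

end K977.Lift
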