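import Groth.Agent.DPow.K977.Lift
import Groth.Agent.S6501
import Mathlib.Algebra.MvPolynomial.Basic
import Mathlib.RingTheory.TensorProduct.Free
import Mathlib.LinearAlgebra.Basis.Submodule
import Mathlib.Data.Nat.Choose.Basic
import Mathlib.Tactic.FieldSimp
import Mathlib.Tactic.Ring

/-!
The divided power polynomial algebra over `ℤ` as a subring of the rational polynomial ring, and its
base change to any commutative ring.
-/

set_option autoImplicit false

namespace K977.Model

open K977.Lift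

universe u v w

variable (Λ : Type w)

/-- the symbols in the rational polynomial ring -/
noncomputable def xQ (l : Λ) (n : ℕ) : MvPolynomial Λ ℚ :=
  MvPolynomial.monomial (Finsupp.single l n) ((n.factorial : ℚ)⁻¹)

variable {Λ}

theorem xQ_sys : DPSys (xQ Λ) := by
  refine ⟨fun l => ?_, fun l n m => ?_⟩
  · simp [xQ]
  · unfold xQ
    rw [MvPolynomial.monomial_mul, ← Finsupp.single_add, ← nsmul_eq_mul, ← map_nsmul, nsmul_eq_mul]
    congr 1
    have := Nat.add_choose_mul_factorial_mul_factorial n m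
    have h1 : ((n.factorial : ℕ) : ℚ) ≠ 0 := by exact_mod_cast Nat.factorial_ne_zero n
    have h2 : ((m.factorial : ℕ) : ℚ) ≠ 0 := by exact_mod_cast Nat.factorial_ne_zero m
    have h3 : (((n + m).factorial : ℕ) : ℚ) ≠ 0 := by exact_mod_cast Nat.factorial_ne_zero _
    field_simp
    rw [← this, Nat.choose_symm_add]
    push_cast
    ring

/-- multi-index factorial -/
noncomputable def fac (e : Λ →₀ ℕ) : ℕ := e.prod (fun _ k => k.factorial)

theorem fac_ne_zero (e : Λ →₀ ℕ) : fac e ≠ 0 :=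
  Finset.prod_ne_zero_iff.mpr fun _ _ => Nat.factorial_ne_zero _

theorem mon_xQ (e : Λ →₀ ℕ) : mon (xQ Λ) e = MvPolynomial.monomial e ((fac e : ℚ)⁻¹) := by
  have h1 : mon (xQ Λ) e = ∏ l ∈ e.support, (MvPolynomial.monomial (Finsupp.single l (e l)) (1 : ℚ) *
      MvPolynomial.C (((e l).factorial : ℚ)⁻¹)) := by
    unfold mon xQ
    rw [Finsupp.prod]
    refine Finset.prod_congr rfl fun l _ => ?_
    rw [mul_comm, MvPolynomial.C_mul_monomial, mul_one]
  rw [h1, Finset.prod_mul_distrib, ← MvPolynomial.monomial_sum_one, ← map_prod,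
    mul_comm, MvPolynomial.C_mul_monomial, mul_one]
  have h2 : ∑ i ∈ e.support, Finsupp.single i (e i) = e := Finsupp.sum_single e
  rw [h2]
  congr 1
  unfold fac
  rw [Finsupp.prod, Nat.cast_prod, Finset.prod_inv_distrib]

variable (Λ)

/-- the integral form, as a submodule -/
noncomputable def PZmod : Submodule ℤ (MvPolynomial Λ ℚ) :=
  Submodule.span ℤ (Set.range fun e : Λ →₀ ℕ => mon (xQ Λ) e)

/-- the integral form, as a subring -/
noncomputable def PZ : Subalgebra ℤ (MvPolynomial Λ ℚ) :=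
  (PZmod Λ).toSubalgebra (Submodule.subset_span ⟨0, mon_zero⟩) (by
    intro p q hp hq
    have h : PZmod Λ * PZmod Λ ≤ PZmod Λ := by
      unfold PZmod
      rw [Submodule.span_mul_span, Submodule.span_le]
      rintro _ ⟨_, ⟨e, rfl⟩, _, ⟨f, rfl⟩, rfl⟩
      change mon (xQ Λ) e * mon (xQ Λ) f ∈ _
      rw [mon_mul xQ_sys, ← nsmul_eq_mul]
      exact Submodule.smul_of_tower_mem _ _ (Submodule.subset_span ⟨e + f, rfl⟩)
    exact h (Submodule.mul_mem_mul hp hq))

theorem linearIndependent_mon : LinearIndependent ℤ (fun e : Λ →₀ ℕ => mon (xQ Λ) e) := by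
  classical
  rw [linearIndependent_iff']
  intro s g hg e he
  have := congrArg (MvPolynomial.coeff e) hg
  rw [MvPolynomial.coeff_sum, MvPolynomial.coeff_zero, Finset.sum_eq_single e] at this
  · rw [mon_xQ, zsmul_eq_mul, ← map_intCast (MvPolynomial.C (σ := Λ) (R := ℚ)),
      MvPolynomial.coeff_C_mul, MvPolynomial.coeff_monomial, if_pos rfl] at this
    have h1 : ((fac e : ℕ) : ℚ) ≠ 0 := by exact_mod_cast fac_ne_zero e
    have h2 := (mul_eq_zero.mp this).resolve_right (inv_ne_zero h1)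
    exact_mod_cast h2
  · intro f _ hf
    rw [mon_xQ, zsmul_eq_mul, ← map_intCast (MvPolynomial.C (σ := Λ) (R := ℚ)),
      MvPolynomial.coeff_C_mul, MvPolynomial.coeff_monomial, if_neg hf, mul_zero]
  · intro h; exact absurd he h

/-- the monomial basis of the integral form -/
noncomputable def bZ : Module.Basis (Λ →₀ ℕ) ℤ (PZ Λ) :=
  Module.Basis.span (linearIndependent_mon Λ)

theorem bZ_coe (e : Λ →₀ ℕ) : ((bZ Λ e : PZ Λ) : MvPolynomial Λ ℚ) = mon (xQ Λ) e :=
  congrArg Subtype.val (Module.Basis.span_apply (linearIndependent_mon Λ) e)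

/-- the symbols in the integral form -/
noncomputable def xZ (l : Λ) (n : ℕ) : PZ Λ :=
  ⟨xQ Λ l n, Submodule.subset_span ⟨Finsupp.single l n, mon_single xQ_sys l n⟩⟩

theorem xZ_sys : DPSys (xZ Λ) :=
  ⟨fun l => Subtype.ext (xQ_sys.zero l), fun l n m => Subtype.ext (by
    push_cast
    exact xQ_sys.mul l n m)⟩

theorem bZ_apply (e : Λ →₀ ℕ) : bZ Λ e = mon (xZ Λ) e := by
  apply Subtype.ext
  rw [bZ_coe]
  unfold mon
  rw [Finsupp.prod, Finsupp.prod]
  push_cast
  rfl

instance torsionFree : IsAddTorsionFree (PZ Λ) where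
  nsmul_right_injective := by
    intro n hn a b hab
    apply Subtype.ext
    have h1 : (n • (a : MvPolynomial Λ ℚ)) = n • (b : MvPolynomial Λ ℚ) := by
      have := congrArg Subtype.val hab
      simpa using this
    have h2 : (n : ℚ) ≠ 0 := by exact_mod_cast hn
    have h3 : (n : ℚ) • (a : MvPolynomial Λ ℚ) = (n : ℚ) • (b : MvPolynomial Λ ℚ) := by
      rw [Nat.cast_smul_eq_nsmul, Nat.cast_smul_eq_nsmul, h1]
    exact smul_right_injective _ h2 h3

theorem xZ_pow (l : Λ) {n : ℕ} (hn : n ≠ 0) (m : ℕ) :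
    (xZ Λ l n) ^ m = (m.factorial : PZ Λ) * ((Nat.uniformBell m n : PZ Λ) * xZ Λ l (m * n)) := by
  apply Subtype.ext
  push_cast
  change (xQ Λ l n) ^ m = (m.factorial : MvPolynomial Λ ℚ) * ((Nat.uniformBell m n : MvPolynomial Λ ℚ) *
    xQ Λ l (m * n))
  unfold xQ
  rw [MvPolynomial.monomial_pow, Finsupp.smul_single, smul_eq_mul, ← nsmul_eq_mul (Nat.uniformBell m n),
    ← map_nsmul, ← nsmul_eq_mul, ← map_nsmul]
  congr 1
  have h := Nat.uniformBell_mul_eq m hn
  have h1 : ((n.factorial : ℕ) : ℚ) ≠ 0 := by exact_mod_cast Nat.factorial_ne_zero n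
  have h3 : (((m * n).factorial : ℕ) : ℚ) ≠ 0 := by exact_mod_cast Nat.factorial_ne_zero _
  rw [nsmul_eq_mul, nsmul_eq_mul]
  have h4 : (Nat.uniformBell m n : ℚ) * (n.factorial : ℚ) ^ m * (m.factorial : ℚ) =
      ((m * n).factorial : ℚ) := by exact_mod_cast h
  have h5 : (n.factorial : ℚ) ^ m ≠ 0 := pow_ne_zero _ h1
  rw [inv_pow]
  field_simp
  rw [← h4]
  ring

theorem nonempty_dp : Nonempty (DividedPowers (aug (xZ Λ))) := by
  rw [(Groth.Agent.S6501.result (aug (xZ Λ))).2]
  refine ⟨_, rfl, ?_⟩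
  rintro _ ⟨l, n, hn, rfl⟩ m hm
  rw [Ideal.mem_span_singleton_mul]
  refine ⟨(Nat.uniformBell m n : PZ Λ) * xZ Λ l (m * n), ?_, (xZ_pow Λ l (by omega) m).symm⟩
  exact Ideal.mul_mem_left _ _ (x_mem_aug l (Nat.mul_ne_zero (by omega) (by omega)))

/-- the divided powers on the augmentation ideal of the integral form -/
noncomputable def γZ : DividedPowers (aug (xZ Λ)) := (nonempty_dp Λ).some

theorem γZ_dpow (l : Λ) (n : ℕ) : (γZ Λ).dpow n (xZ Λ l 1) = xZ Λ l n := by
  have h1 := (γZ Λ).factorial_mul_dpow_eq_pow (n := n) (x_mem_aug (x := xZ Λ) l one_ne_zero)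
  have h2 := xZ_pow Λ l one_ne_zero n
  rw [← h1, mul_one, Nat.uniformBell_one_right, Nat.cast_one, one_mul, ← nsmul_eq_mul,
    ← nsmul_eq_mul] at h2
  exact nsmul_right_injective (Nat.factorial_ne_zero n) h2

end K977.Model
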