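import Groth.Agent.DPow.K977.DualNumbers
import Mathlib.RingTheory.Derivation.Basic
import Mathlib.Algebra.Algebra.Subalgebra.Lattice
import Mathlib.RingTheory.Ideal.Maps

/-!
Consequences of the universal property of the divided power polynomial algebra: generation by the
divided powers of the variables and existence of the partial derivatives.
-/

set_option autoImplicit false

namespace K977.Univ

universe u v

section Restrict

variable {S : Type u} {P : Type v} [CommRing S] [CommRing P] (f : S →+* P)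
    (hf : Function.Injective f) {JP : Ideal P} (δP : DividedPowers JP) (K : Ideal S)
    (hK : ∀ y ∈ K, f y ∈ JP)
    (h : ∀ y ∈ K, ∀ m : ℕ, ∃ w : S, f w = δP.dpow m (f y) ∧ (m ≠ 0 → w ∈ K))

include hf hK h in
/-- Restriction of divided powers to a subring. -/
theorem exists_restrict : ∃ ε : DividedPowers K, ∀ y ∈ K, ∀ m : ℕ,
    f (ε.dpow m y) = δP.dpow m (f y) := by
  classical
  choose! g hg1 hg2 using h
  refine ⟨{
    dpow := fun m y => if y ∈ K then g y m else 0
    dpow_null := fun {m y} hy => if_neg hy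
    dpow_zero := fun {y} hy => ?_
    dpow_one := fun {y} hy => ?_
    dpow_mem := fun {m y} hm hy => ?_
    dpow_add := fun {m y z} hy hz => ?_
    dpow_mul := fun {m a y} hy => ?_
    mul_dpow := fun {m k y} hy => ?_
    dpow_comp := fun {m k y} hk hy => ?_ }, fun y hy m => ?_⟩
  · apply hf
    rw [if_pos hy, hg1 y hy, map_one, δP.dpow_zero (hK y hy)]
  · apply hf
    rw [if_pos hy, hg1 y hy, δP.dpow_one (hK y hy)]
  · rw [if_pos hy]
    exact hg2 y hy m hm
  · apply hf
    rw [if_pos (K.add_mem hy hz), hg1 _ (K.add_mem hy hz), map_add, δP.dpow_add (hK y hy) (hK z hz),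
      map_sum]
    refine Finset.sum_congr rfl fun k _ => ?_
    rw [if_pos hy, if_pos hz, map_mul, hg1 y hy, hg1 z hz]
  · apply hf
    rw [if_pos (K.mul_mem_left _ hy), if_pos hy, hg1 _ (K.mul_mem_left _ hy), map_mul, map_mul,
      map_pow, δP.dpow_mul (hK y hy), hg1 y hy]
  · apply hf
    rw [if_pos hy, if_pos hy, if_pos hy, map_mul, map_mul, map_natCast, hg1 y hy, hg1 y hy, hg1 y hy,
      δP.mul_dpow (hK y hy)]
  · apply hf
    rw [if_pos hy, if_pos hy, if_pos (hg2 y hy k hk), hg1 _ (hg2 y hy k hk), hg1 y hy, map_mul,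
      map_natCast, hg1 y hy, δP.dpow_comp hk (hK y hy)]
  · change f (if y ∈ K then g y m else 0) = _
    rw [if_pos hy, hg1 y hy]

end Restrict

variable {B : Type u} [CommRing B] {J : Ideal B} {δ : DividedPowers J} {n : ℕ}
    {P : Type u} [CommRing P] [Algebra B P]
    {JP : Ideal P} {δP : DividedPowers JP} {X : Fin n → P} (hX : ∀ i, X i ∈ JP)
    (hmor : δ.IsDPMorphism δP (algebraMap B P))
    (huniv : ∀ (C : Type u) [CommRing C] [Algebra B C] (K : Ideal C) (ε : DividedPowers K),
      δ.IsDPMorphism ε (algebraMap B C) → ∀ k : Fin n → C, (∀ i, k i ∈ K) →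
        ∃! φ : P →ₐ[B] C, (∀ i, φ (X i) = k i) ∧ δP.IsDPMorphism ε φ.toRingHom)

include hX hmor huniv in
theorem endo_eq_id (φ : P →ₐ[B] P) (h1 : ∀ i, φ (X i) = X i)
    (h2 : δP.IsDPMorphism δP φ.toRingHom) : φ = AlgHom.id B P := by
  obtain ⟨ψ, _, hψ⟩ := huniv P JP δP hmor X hX
  rw [hψ φ ⟨h1, h2⟩]
  refine (hψ (AlgHom.id B P) ⟨fun i => rfl, ?_, fun {m} a ha => rfl⟩).symm
  exact Ideal.map_le_iff_le_comap.mpr fun x hx => hx

include hX hmor huniv in
/-- the divided powers of the variables generate -/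
theorem adjoin_eq_top :
    Algebra.adjoin B (Set.range fun p : Fin n × ℕ => δP.dpow p.2 (X p.1)) = ⊤ := by
  set S := Algebra.adjoin B (Set.range fun p : Fin n × ℕ => δP.dpow p.2 (X p.1)) with hS
  have hmem : ∀ j m, δP.dpow m (X j) ∈ S := fun j m => Algebra.subset_adjoin ⟨(j, m), rfl⟩
  let G : Set S := (algebraMap B S '' J) ∪
    Set.range fun p : Fin n × ℕ => (⟨δP.dpow (p.2 + 1) (X p.1), hmem p.1 _⟩ : S)
  let K : Ideal S := Ideal.span G
  let f : S →+* P := S.val.toRingHom
  have hK : ∀ y ∈ K, f y ∈ JP := by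
    have : K ≤ JP.comap f := by
      rw [Ideal.span_le]
      rintro _ (⟨b, hb, rfl⟩ | ⟨p, rfl⟩)
      · exact hmor.ideal_comp (Ideal.mem_map_of_mem _ hb)
      · exact δP.dpow_mem (by omega) (hX _)
    exact fun y hy => this hy
  have h : ∀ y ∈ K, ∀ m : ℕ, ∃ w : S, f w = δP.dpow m (f y) ∧ (m ≠ 0 → w ∈ K) := by
    intro y hy
    induction hy using Submodule.span_induction with
    | mem y hy =>
      rcases hy with ⟨b, hb, rfl⟩ | ⟨p, rfl⟩
      · intro m
        refine ⟨algebraMap B S (δ.dpow m b), ?_, fun hm => ?_⟩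
        · exact (hmor.dpow_comp b hb).symm
        · exact Ideal.subset_span (Or.inl ⟨_, δ.dpow_mem hm hb, rfl⟩)
      · intro m
        refine ⟨(Nat.uniformBell m (p.2 + 1) : S) * ⟨δP.dpow (m * (p.2 + 1)) (X p.1), hmem _ _⟩,
          ?_, fun hm => ?_⟩
        · rw [map_mul, map_natCast]
          exact (δP.dpow_comp (by omega) (hX _)).symm
        · refine Ideal.mul_mem_left _ _ (Ideal.subset_span (Or.inr ?_))
          obtain ⟨k, hk⟩ := Nat.exists_eq_succ_of_ne_zero
            (Nat.mul_ne_zero hm (Nat.succ_ne_zero p.2))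
          refine ⟨(p.1, k), ?_⟩
          apply Subtype.ext
          change δP.dpow (k + 1) (X p.1) = δP.dpow (m * (p.2 + 1)) (X p.1)
          rw [← Nat.succ_eq_add_one k, ← hk]
    | zero =>
      intro m
      rw [map_zero]
      by_cases hm : m = 0
      · exact ⟨1, by rw [hm, δP.dpow_zero JP.zero_mem, map_one], fun h => absurd hm h⟩
      · exact ⟨0, by rw [δP.dpow_eval_zero hm, map_zero], fun _ => K.zero_mem⟩
    | add y z hy hz h1 h2 =>
      intro m
      choose g1 hg1 hg1' using h1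
      choose g2 hg2 hg2' using h2
      refine ⟨∑ k ∈ Finset.antidiagonal m, g1 k.1 * g2 k.2, ?_, fun hm => ?_⟩
      · rw [map_sum, map_add, δP.dpow_add (hK y hy) (hK z hz)]
        exact Finset.sum_congr rfl fun k _ => by rw [map_mul, hg1, hg2]
      · refine sum_mem fun k hk => ?_
        rw [Finset.mem_antidiagonal] at hk
        by_cases h0 : k.1 = 0
        · exact K.mul_mem_left _ (hg2' _ (by omega))
        · exact K.mul_mem_right _ (hg1' _ h0)
    | smul a y hy h =>
      intro m
      obtain ⟨w, hw1, hw2⟩ := h m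
      refine ⟨a ^ m * w, ?_, fun hm => K.mul_mem_left _ (hw2 hm)⟩
      rw [smul_eq_mul, map_mul, map_mul, map_pow, δP.dpow_mul (hK y hy), hw1]
  obtain ⟨ε, hε⟩ := exists_restrict f Subtype.val_injective δP K hK h
  have hone : ∀ i, δP.dpow 1 (X i) = X i := fun i => δP.dpow_one (hX i)
  have hXS : ∀ i, X i ∈ S := fun i => hone i ▸ hmem i 1
  obtain ⟨φ, ⟨hφ1, hφ2⟩, _⟩ := huniv S K ε
    ⟨Ideal.map_le_iff_le_comap.mpr fun b hb => Ideal.subset_span (Or.inl ⟨b, hb, rfl⟩),
      fun {m} b hb => by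
        apply Subtype.val_injective
        exact (hε _ (Ideal.subset_span (Or.inl ⟨b, hb, rfl⟩)) m).trans (hmor.dpow_comp b hb)⟩
    (fun i => ⟨X i, hXS i⟩) (fun i => by
      refine Ideal.subset_span (Or.inr ⟨(i, 0), ?_⟩)
      apply Subtype.ext
      exact hone i)
  have hid : S.val.comp φ = AlgHom.id B P := by
    refine endo_eq_id hX hmor huniv _ (fun i => ?_) ⟨?_, fun {m} x hx => ?_⟩
    · change ((φ (X i) : S) : P) = X i
      rw [hφ1]
    · refine Ideal.map_le_iff_le_comap.mpr fun x hx => ?_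
      change f (φ x) ∈ JP
      exact hK _ (hφ2.ideal_comp (Ideal.mem_map_of_mem _ hx))
    · change δP.dpow m (f (φ x)) = f (φ (δP.dpow m x))
      have h1 : φ x ∈ K := hφ2.ideal_comp (Ideal.mem_map_of_mem _ hx)
      rw [← hε _ h1]
      exact congrArg f (hφ2.dpow_comp x hx)
  rw [eq_top_iff]
  intro p _
  have : ((φ p : S) : P) = p := AlgHom.congr_fun hid p
  rw [← this]
  exact (φ p).2

open TrivSqZeroExt in
include hX hmor huniv in
/-- the partial derivatives -/
theorem exists_partial (i : Fin n) : ∃ D : Derivation B P P,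
    (∀ j, D (X j) = if j = i then 1 else 0) ∧
      ∀ x ∈ JP, ∀ m : ℕ, D (δP.dpow (m + 1) x) = δP.dpow m x * D x := by
  obtain ⟨φ, ⟨hφ1, hφ2⟩, _⟩ := huniv (TrivSqZeroExt P P) (K977.Dual.K JP) (K977.Dual.dual δP)
    ⟨Ideal.map_le_iff_le_comap.mpr fun b hb => by
        change (algebraMap B (TrivSqZeroExt P P) b).fst ∈ JP
        exact hmor.ideal_comp (Ideal.mem_map_of_mem _ hb),
      fun {m} b hb => by
        have h1 : (algebraMap B (TrivSqZeroExt P P) b).fst ∈ JP :=
          hmor.ideal_comp (Ideal.mem_map_of_mem _ hb)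
        ext
        · rw [K977.Dual.dual_fst δP m h1]
          exact hmor.dpow_comp b hb
        · rw [K977.Dual.dual_snd δP m h1]
          have h2 : ∀ c : B, (algebraMap B (TrivSqZeroExt P P) c).snd = 0 := fun c => rfl
          rw [h2, h2, mul_zero]⟩
    (fun j => inl (X j) + inr (if j = i then 1 else 0)) (fun j => by
      change (inl (X j) + inr (if j = i then 1 else 0) : TrivSqZeroExt P P).fst ∈ JP
      simpa using hX j)
  have hfst : ∀ p, (φ p).fst = p := by
    have : (fstHom B P P).comp φ = AlgHom.id B P := by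
      refine endo_eq_id hX hmor huniv _ (fun j => ?_) ⟨?_, fun {m} x hx => ?_⟩
      · change (φ (X j)).fst = X j
        rw [hφ1]; simp
      · refine Ideal.map_le_iff_le_comap.mpr fun x hx => ?_
        exact hφ2.ideal_comp (Ideal.mem_map_of_mem _ hx)
      · have h1 : (φ x).fst ∈ JP := hφ2.ideal_comp (Ideal.mem_map_of_mem _ hx)
        change δP.dpow m (φ x).fst = (φ (δP.dpow m x)).fst
        rw [← K977.Dual.dual_fst δP m h1]
        exact congrArg fst (hφ2.dpow_comp x hx)
    exact fun p => AlgHom.congr_fun this p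
  let L : P →ₗ[B] P := (sndHom P P).restrictScalars B ∘ₗ φ.toLinearMap
  have hL : ∀ p, L p = (φ p).snd := fun p => rfl
  refine ⟨Derivation.mk' L fun a b => ?_, fun j => ?_, fun x hx m => ?_⟩
  · rw [hL, hL, hL, map_mul, snd_mul, hfst, hfst]
    simp [mul_comm]
  · change L (X j) = _
    rw [hL, hφ1]; simp
  · change L _ = _ * L _
    rw [hL, hL]
    have h1 : (φ x).fst ∈ JP := hφ2.ideal_comp (Ideal.mem_map_of_mem _ hx)
    have h2 : φ (δP.dpow (m + 1) x) = (K977.Dual.dual δP).dpow (m + 1) (φ x) :=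
      (hφ2.dpow_comp x hx).symm
    rw [h2, K977.Dual.dual_snd δP _ h1, K977.Dual.sh_succ, hfst]

end K977.Univ
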